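/-
A Sylow 2-subgroup of the commutator subgroup of the orthogonal group of an orthogonal sum of `m`
equal planes and `l` lines (odd characteristic) is generated by involutions.
-/
import Cfsg.Agent.Lib.Orth52.Spinor
import Cfsg.Agent.Lib.Forms.SquareClass
import Cfsg.Agent.Lib.SymSylow.Generated

set_option autoImplicit false
set_option linter.unusedSectionVars false

namespace Cfsg.Agent.Lib.SylowOrth52

open Module QuadraticMap
open Cfsg.Agent.Lib.Forms Cfsg.Agent.Lib.Orth52

variable {F : Type*} [Field F]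

/-! ### Homomorphisms -/

section Prod

variable {V V' : Type*} [AddCommGroup V] [Module F V] [AddCommGroup V'] [Module F V']

/-- Isometries of the summands as an isometry of the sum. -/
def orthProd (Q : QuadraticForm F V) (Q' : QuadraticForm F V') :
    orth Q × orth Q' →* orth (Q.prod Q') where
  toFun g := ⟨g.1.1.prodCongr g.2.1, fun (v : V × V') => by
    show Q.prod Q' (g.1.1 v.1, g.2.1 v.2) = Q.prod Q' v
    rw [QuadraticMap.prod_apply, QuadraticMap.prod_apply, g.1.2, g.2.2]⟩
  map_one' := rfl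
  map_mul' _ _ := rfl

theorem orthProd_injective (Q : QuadraticForm F V) (Q' : QuadraticForm F V') :
    Function.Injective (orthProd Q Q') := fun g h e => by
  have he : ∀ v : V × V', (g.1.1 v.1, g.2.1 v.2) = (h.1.1 v.1, h.2.1 v.2) := fun v =>
    LinearEquiv.congr_fun (congrArg Subtype.val e) v
  exact Prod.ext (Subtype.ext (LinearEquiv.ext fun x => congrArg Prod.fst (he (x, 0))))
    (Subtype.ext (LinearEquiv.ext fun x => congrArg Prod.snd (he (0, x))))

theorem prod_polar (Q : QuadraticForm F V) (Q' : QuadraticForm F V') (v w : V × V') :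
    polar (Q.prod Q') v w = polar Q v.1 w.1 + polar Q' v.2 w.2 := by
  simp only [polar, QuadraticMap.prod_apply, Prod.fst_add, Prod.snd_add]; ring

theorem orthProd_orefl_left (Q : QuadraticForm F V) (Q' : QuadraticForm F V') (z : V) :
    orthProd Q Q' (orefl Q z, 1) = orefl (Q.prod Q') (z, 0) := by
  refine Subtype.ext (LinearEquiv.ext fun v => ?_)
  show (refl Q z v.1, v.2) = refl (Q.prod Q') (z, 0) v
  rw [refl_apply, refl_apply, prod_polar, QuadraticMap.prod_apply]
  ext <;> simp

theorem orthProd_orefl_right (Q : QuadraticForm F V) (Q' : QuadraticForm F V') (z : V') :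
    orthProd Q Q' (1, orefl Q' z) = orefl (Q.prod Q') (0, z) := by
  refine Subtype.ext (LinearEquiv.ext fun v => ?_)
  show (v.1, refl Q' z v.2) = refl (Q.prod Q') (0, z) v
  rw [refl_apply, refl_apply, prod_polar, QuadraticMap.prod_apply]
  ext <;> simp

end Prod

section Pi

variable {ι : Type*} [Fintype ι] [DecidableEq ι] {U : ι → Type*} [∀ i, AddCommGroup (U i)]
  [∀ i, Module F (U i)] (q : ∀ i, QuadraticForm F (U i))

/-- Componentwise isometries. -/
def orthPi : (∀ i, orth (q i)) →* orth (QuadraticMap.pi q) where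
  toFun g := ⟨LinearEquiv.piCongrRight fun i => (g i).1, fun v => by
    simp only [QuadraticMap.pi_apply, LinearEquiv.piCongrRight_apply]
    exact Finset.sum_congr rfl fun i _ => (g i).2 _⟩
  map_one' := rfl
  map_mul' _ _ := rfl

theorem orthPi_injective : Function.Injective (orthPi q) := fun g h e => funext fun i =>
  Subtype.ext (LinearEquiv.ext fun x => by
    have := congrFun (LinearEquiv.congr_fun (congrArg Subtype.val e) (Pi.single i x)) i
    change (g i).1 (Pi.single i x i) = (h i).1 (Pi.single i x i) at this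
    simpa using this)

theorem pi_polar (v w : ∀ i, U i) : polar (QuadraticMap.pi q) v w = ∑ i, polar (q i) (v i) (w i) := by
  simp only [polar, QuadraticMap.pi_apply, Pi.add_apply, ← Finset.sum_sub_distrib]

theorem pi_single (i : ι) (z : U i) : QuadraticMap.pi q (Pi.single i z) = q i z := by
  rw [QuadraticMap.pi_apply, Finset.sum_eq_single i (fun j _ h => by
    rw [Pi.single_eq_of_ne h, QuadraticMap.map_zero]) (by simp), Pi.single_eq_same]

theorem pi_polar_single (i : ι) (z : U i) (w : ∀ i, U i) :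
    polar (QuadraticMap.pi q) (Pi.single i z) w = polar (q i) z (w i) := by
  rw [pi_polar, Finset.sum_eq_single i (fun j _ h => by
    rw [Pi.single_eq_of_ne h, polar_zero_left]) (by simp), Pi.single_eq_same]

theorem orthPi_orefl (i : ι) (z : U i) :
    orthPi q (Pi.mulSingle (M := fun i => orth (q i)) i (orefl (q i) z)) = orefl (QuadraticMap.pi q) (Pi.single i z) := by
  refine Subtype.ext (LinearEquiv.ext fun v => funext fun j => ?_)
  show (Pi.mulSingle (M := fun i => orth (q i)) i (orefl (q i) z) j).1 (v j) = refl (QuadraticMap.pi q) (Pi.single i z) v j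
  rw [refl_apply, pi_single, pi_polar_single]
  rcases eq_or_ne j i with rfl | h
  · rw [Pi.mulSingle_eq_same, Pi.sub_apply, Pi.smul_apply, Pi.single_eq_same]
    rfl
  · rw [Pi.mulSingle_eq_of_ne h, Pi.sub_apply, Pi.smul_apply, Pi.single_eq_of_ne h, smul_zero,
      sub_zero]
    rfl

end Pi

section Perm

variable {ι : Type*} [Fintype ι] [DecidableEq ι] {U : Type*} [AddCommGroup U] [Module F U]
  (P : QuadraticForm F U)

/-- Permutations of equal summands. -/
def orthPerm : Equiv.Perm ι →* orth (QuadraticMap.pi fun _ : ι => P) where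
  toFun t := ⟨LinearEquiv.funCongrLeft F U t.symm, fun v => by
    simp only [QuadraticMap.pi_apply]
    exact Equiv.sum_comp t.symm fun i => P (v i)⟩
  map_one' := rfl
  map_mul' _ _ := rfl

theorem orthPerm_apply (t : Equiv.Perm ι) (v : ι → U) (i : ι) :
    (orthPerm P t).1 v i = v (t.symm i) := rfl

theorem orthPerm_swap (h2 : (2 : F) ≠ 0) (b : Basis (Fin 2) F U) (hb : polar P (b 0) (b 1) = 0)
    (hQ0 : P (b 0) ≠ 0) (hQ1 : P (b 1) ≠ 0) {i j : ι} (h : i ≠ j) :
    orthPerm P (Equiv.swap i j) =
      orefl (QuadraticMap.pi fun _ : ι => P) (Pi.single i (b 0) - Pi.single j (b 0)) *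
        orefl (QuadraticMap.pi fun _ : ι => P) (Pi.single i (b 1) - Pi.single j (b 1)) := by
  set Q := QuadraticMap.pi fun _ : ι => P
  have hQw : ∀ u, Q (Pi.single i u - Pi.single j u) = 2 * P u := fun u => by
    rw [sub_eq_add_neg, Q_add, polar_neg_right, QuadraticMap.map_neg, pi_single, pi_single,
      pi_polar_single, Pi.single_eq_of_ne h, polar_zero_right]
    ring
  have hpw : ∀ u (v : ι → U), polar Q (Pi.single i u - Pi.single j u) v = polar P u (v i - v j) :=
    fun u v => by rw [polar_sub_left, pi_polar_single, pi_polar_single, ← polar_sub_right]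
  have hexp : ∀ d : U, d = ((2 * P (b 0))⁻¹ * polar P (b 0) d) • b 0 +
      ((2 * P (b 1))⁻¹ * polar P (b 1) d) • b 1 := by
    intro d
    conv_lhs => rw [← b.sum_repr d, Fin.sum_univ_two]
    have e0 : polar P (b 0) d = b.repr d 0 * (2 * P (b 0)) := by
      conv_lhs => rw [← b.sum_repr d, Fin.sum_univ_two]
      rw [polar_add_right, polar_smul_right, polar_smul_right, polar_self', hb]
      simp
    have e1 : polar P (b 1) d = b.repr d 1 * (2 * P (b 1)) := by
      conv_lhs => rw [← b.sum_repr d, Fin.sum_univ_two]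
      rw [polar_add_right, polar_smul_right, polar_smul_right, polar_self', polar_comm P (b 1) (b 0),
        hb]
      simp
    rw [e0, e1]
    congr 2 <;> field_simp
  refine Subtype.ext (LinearEquiv.ext fun v => funext fun k => ?_)
  show v ((Equiv.swap i j).symm k) = refl Q _ (refl Q _ v) k
  rw [Equiv.symm_swap, refl_apply, refl_apply, polar_sub_right, polar_smul_right, hQw, hQw, hpw, hpw,
    hpw]
  simp only [Pi.sub_apply, Pi.single_eq_same, Pi.single_eq_of_ne h, Pi.single_eq_of_ne h.symm,
    zero_sub, sub_zero, sub_neg_eq_add, polar_add_right, hb, add_zero, smul_zero, mul_zero,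
    Pi.smul_apply]
  have hd := hexp (v i - v j)
  rcases eq_or_ne k i with rfl | hki
  · rw [Equiv.swap_apply_left, Pi.single_eq_same, Pi.single_eq_same, Pi.single_eq_of_ne h,
      Pi.single_eq_of_ne h, sub_zero, sub_zero, sub_sub, add_comm, ← hd, sub_sub_cancel]
  rcases eq_or_ne k j with rfl | hkj
  · rw [Equiv.swap_apply_right, Pi.single_eq_same, Pi.single_eq_same, Pi.single_eq_of_ne h.symm,
      Pi.single_eq_of_ne h.symm, zero_sub, zero_sub, smul_neg, smul_neg, sub_neg_eq_add,
      sub_neg_eq_add, add_assoc, add_comm (_ • b 1), ← hd, add_sub_cancel]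
  · rw [Equiv.swap_apply_of_ne_of_ne hki hkj, Pi.single_eq_of_ne hki, Pi.single_eq_of_ne hkj,
      Pi.single_eq_of_ne hki, Pi.single_eq_of_ne hkj]
    simp

end Perm

/-! ### A group lemma -/

/-- A group generated modulo a normalised subgroup `X` by two commuting involutions with
independent values of `χ` has `X` as the kernel of `χ`. -/
theorem mem_of_ker {G A : Type*} [Group G] [CommGroup A] (χ : G →* A) {X : Subgroup G} {a b : G}
    (hX : ∀ x ∈ X, χ x = 1) (ha : a * a = 1) (hb : b * b = 1) (hab : a * b = b * a)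
    (hxa : ∀ x ∈ X, a * x * a⁻¹ ∈ X) (hxb : ∀ x ∈ X, b * x * b⁻¹ ∈ X)
    (hca : χ a ≠ 1) (hcb : χ b ≠ 1) (hcab : χ a * χ b ≠ 1)
    {y : G} (hy : y ∈ X ⊔ Subgroup.closure {a, b}) (hχ : χ y = 1) : y ∈ X := by
  set N := Subgroup.closure ({a, b} : Set G)
  have hN : ∀ n ∈ N, n = 1 ∨ n = a ∨ n = b ∨ n = a * b := by
    intro n hn
    have hai : a⁻¹ = a := inv_eq_of_mul_eq_one_right ha
    have hbi : b⁻¹ = b := inv_eq_of_mul_eq_one_right hb
    induction hn using Subgroup.closure_induction with
    | mem x hx => rcases hx with rfl | rfl <;> tauto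
    | one => tauto
    | mul x z _ _ hx hz =>
      have h1 : b * a = a * b := hab.symm
      have h2 : a * b * a = b := by rw [mul_assoc, h1, ← mul_assoc, ha, one_mul]
      have h3 : a * b * b = a := by rw [mul_assoc, hb, mul_one]
      have h4 : a * (a * b) = b := by rw [← mul_assoc, ha, one_mul]
      have h5 : b * (a * b) = a := by rw [← mul_assoc, h1, h3]
      have h6 : a * b * (a * b) = 1 := by rw [← mul_assoc, h2, hb]
      rcases hx with rfl | rfl | rfl | rfl <;> rcases hz with rfl | rfl | rfl | rfl <;>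
        simp [ha, hb, h1, h2, h3, h4, h5, h6]
    | inv x _ hx =>
      rcases hx with rfl | rfl | rfl | rfl
      · simp
      · simp [hai]
      · simp [hbi]
      · right; right; right; rw [mul_inv_rev, hai, hbi, hab]
  have hconj : ∀ x ∈ X, ∀ n ∈ N, n * x * n⁻¹ ∈ X := by
    intro x hx n hn
    rcases hN n hn with rfl | rfl | rfl | rfl
    · simpa using hx
    · exact hxa x hx
    · exact hxb x hx
    · have := hxa _ (hxb x hx)
      simpa [mul_assoc, mul_inv_rev] using this
  have hle : N ≤ Subgroup.normalizer (X : Set G) := by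
    intro n hn
    rw [Subgroup.mem_normalizer_iff]
    refine fun x => ⟨fun hx => hconj x hx n hn, fun hx => ?_⟩
    have := hconj _ hx n⁻¹ (N.inv_mem hn)
    simpa [mul_assoc] using this
  have hy' := hy
  rw [← SetLike.mem_coe, sup_comm, Subgroup.coe_mul_of_left_le_normalizer_right N X hle] at hy'
  obtain ⟨n, hn, x, hx, rfl⟩ := hy'
  rw [map_mul, hX x hx, mul_one] at hχ
  rcases hN n hn with rfl | rfl | rfl | rfl
  · simpa using hx
  · exact absurd hχ hca
  · exact absurd hχ hcb
  · rw [map_mul] at hχ; exact absurd hχ hcab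

/-! ### The model -/

section Model

variable [Finite F] {U : Type*} [AddCommGroup U] [Module F U] [FiniteDimensional F U]
  {m l : ℕ} (P : QuadraticForm F U) (c : Fin l → F)

/-- Planes and lines. -/
abbrev mQ : QuadraticForm F ((Fin m → U) × (Fin l → F)) :=
  (QuadraticMap.pi fun _ : Fin m => P).prod (QuadraticMap.pi fun j => qOne (c j))

theorem mQ_nondeg (hP : Nondeg P) (h2 : (2 : F) ≠ 0) (hc : ∀ j, c j ≠ 0) :
    Nondeg (mQ (m := m) P c) := by
  refine prod_nondeg (fun x hx => funext fun i => hP _ fun y => ?_) fun x hx => funext fun j => ?_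
  · rw [← pi_polar_single (fun _ : Fin m => P) i y x |>.trans (polar_comm P y (x i)), polar_comm]
    exact hx _
  · refine qOne_nondeg (hc j) h2 _ fun y => ?_
    rw [polar_comm, ← pi_polar_single (fun j => qOne (c j)) j y x, polar_comm]
    exact hx _

/-- The two characters. -/
noncomputable def chi {V : Type*} [AddCommGroup V] [Module F V] [FiniteDimensional F V] [Finite V]
    {Q : QuadraticForm F V} (hQ : Nondeg Q) (h2 : (2 : F) ≠ 0) (hn : 2 ≤ finrank F V) :
    orth Q →* Multiplicative (ZMod 2) × ℤˣ :=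
  (dicksonHom hQ (Or.inl (exists_ne01 h2))).prod (spinHom hQ h2 hn)

open Classical in
/-- The value of the characters on a reflection of norm `t`. -/
noncomputable def cls (t : F) : Multiplicative (ZMod 2) × ℤˣ :=
  (Multiplicative.ofAdd 1, if IsSquare t then 1 else -1)

theorem chi_orefl {V : Type*} [AddCommGroup V] [Module F V] [FiniteDimensional F V] [Finite V]
    {Q : QuadraticForm F V} (hQ : Nondeg Q) (h2 : (2 : F) ≠ 0) (hn : 2 ≤ finrank F V) {z : V}
    (hz : Q z ≠ 0) : chi hQ h2 hn (orefl Q z) = cls (Q z) := by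
  refine Prod.ext (dicksonHom_orefl hQ _ hz) ?_
  show spinHom hQ h2 hn (orefl Q z) = (cls (Q z)).2
  unfold cls
  split
  · next h => exact (spinHom_orefl_eq_one_iff hQ h2 hn hz).2 h
  · next h =>
    exact (Int.units_eq_one_or _).resolve_left
      (fun e => h ((spinHom_orefl_eq_one_iff hQ h2 hn hz).1 e))

theorem chi_eq_one_iff {V : Type*} [AddCommGroup V] [Module F V] [FiniteDimensional F V] [Finite V]
    {Q : QuadraticForm F V} (hQ : Nondeg Q) (h2 : (2 : F) ≠ 0) (hn : 2 ≤ finrank F V) (g : orth Q) :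
    chi hQ h2 hn g = 1 ↔ g ∈ commutator (orth Q) := by
  rw [mem_commutator_iff_spin hQ h2 hn, chi, MonoidHom.prod_apply, Prod.mk_eq_one]
  exact and_congr_left fun _ => ⟨fun h => Multiplicative.ofAdd.injective h,
    fun h => congrArg Multiplicative.ofAdd h⟩

theorem cls_ne_one (t : F) : cls t ≠ 1 := fun h =>
  absurd (congrArg Prod.fst h) (by decide : (Multiplicative.ofAdd (1 : ZMod 2)) ≠ 1)

theorem zmod2_flip : ∀ t : ZMod 2, ¬t = 1 → t + 1 = 1 := by decide

theorem ofAdd_sq : ∀ s : ℤˣ, ((Multiplicative.ofAdd (1 : ZMod 2)), s) * (Multiplicative.ofAdd (1 : ZMod 2), s) = 1 := by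
  decide

theorem zmod2_two : ((2 : ℕ) : ZMod 2) ≠ 1 := by decide

theorem cls_cases {s ν : F} (hν : ¬ IsSquare ν) : cls s = cls (1 : F) ∨ cls s = cls ν := by
  by_cases h : IsSquare s <;> simp [cls, h, hν]

theorem cls_mul_ne {ν : F} (hν : ¬ IsSquare ν) : cls (1 : F) * cls ν ≠ 1 := fun h => by
  have := congrArg Prod.snd h
  simp [cls, hν] at this

variable {P c}

/-- **The model theorem.** -/
theorem model_main (hP : Nondeg P) (h2 : (2 : F) ≠ 0) (hU : finrank F U = 2)
    (b : Basis (Fin 2) F U) (hb : polar P (b 0) (b 1) = 0) (hbsq : IsSquare (P (b 0) * P (b 1)))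
    (hm : 2 ≤ m) (hc : ∀ j, c j ≠ 0)
    (hcard : (Nat.card (orth (mQ (m := m) P c))).factorization 2 =
      m * (Nat.card (orth P)).factorization 2 + (Nat.factorial m).factorization 2 + l) :
    ∀ {G : Type*} [Group G] [Finite G], G ≃* commutator (orth (mQ (m := m) P c)) →
      ∀ (S : Sylow 2 G) (x : (S : Subgroup G)), x ^ 2 ∈ commutator (S : Subgroup G) := by
  classical
  haveI : Fact (Nat.Prime 2) := ⟨Nat.prime_two⟩
  haveI := Module.finite_of_finite F (M := U)
  haveI := Fintype.ofFinite F
  set Q := mQ (m := m) P c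
  have hQ : Nondeg Q := mQ_nondeg P c hP h2 hc
  have hnU : 2 ≤ finrank F U := hU.ge
  have hn : 2 ≤ finrank F ((Fin m → U) × (Fin l → F)) := by
    rw [finrank_prod, Module.finrank_pi_fintype, Finset.sum_const, Finset.card_univ,
      Fintype.card_fin, smul_eq_mul, hU]
    omega
  haveI : Finite ((Fin m → U) × (Fin l → F)) := inferInstance
  set χ := chi hQ h2 hn
  set χP := chi hP h2 hnU
  obtain ⟨ν, hν⟩ := exists_nonsq (F := F) h2
  have hν0 : ν ≠ 0 := fun h => hν (h ▸ IsSquare.zero)
  -- the dihedral part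
  let D : Sylow 2 (orth P) := default
  have hDmap : ∀ y : orth P, ∃ d ∈ (D : Subgroup (orth P)), χP d = χP y := by
    let f := χP.rangeRestrict
    have hf : Function.Surjective f := χP.rangeRestrict_surjective
    have h1 : ((D : Subgroup (orth P)).map f).index = 1 := by
      have ha := (D : Subgroup (orth P)).index_map_dvd hf
      have hb4 : ((D : Subgroup (orth P)).map f).index ∣ 2 ^ 2 := by
        refine (Subgroup.index_dvd_card _).trans ((Subgroup.card_subgroup_dvd_card χP.range).trans ?_)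
        rw [Nat.card_prod, Nat.card_eq_fintype_card, Nat.card_eq_fintype_card]
        decide
      have hodd : ¬ 2 ∣ (D : Subgroup (orth P)).index := D.not_dvd_index
      obtain ⟨k, -, hk⟩ := (Nat.dvd_prime_pow Nat.prime_two).1 hb4
      rcases Nat.eq_zero_or_pos k with rfl | hk0
      · simpa using hk
      · exact absurd ((dvd_pow_self 2 hk0.ne').trans (hk ▸ ha)) hodd
    intro y
    have : f y ∈ (D : Subgroup (orth P)).map f := by
      rw [Subgroup.index_eq_one.1 h1]; trivial
    obtain ⟨d, hd, hdy⟩ := this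
    exact ⟨d, hd, congrArg Subtype.val hdy⟩
  have hrefl : ∀ t : F, t ≠ 0 → ∃ z, P z ≠ 0 ∧ orefl P z ∈ (D : Subgroup (orth P)) ∧
      cls (P z) = cls t := by
    intro t ht
    obtain ⟨z₀, hz₀⟩ := exists_Q_eq hP hnU t
    obtain ⟨d, hd, hdy⟩ := hDmap (orefl P z₀)
    rw [chi_orefl hP h2 hnU (by rw [hz₀]; exact ht), hz₀] at hdy
    have hd1 : dickson P d = 1 := Multiplicative.ofAdd.injective (congrArg Prod.fst hdy)
    have hrk : finrank F (LinearMap.range (dev d.1)) = 1 := by
      have hle : finrank F (LinearMap.range (dev d.1)) ≤ 2 := (Submodule.finrank_le _).trans hU.le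
      have hd1' : ((finrank F (LinearMap.range (dev d.1)) : ℕ) : ZMod 2) = 1 := hd1
      interval_cases (finrank F (LinearMap.range (dev d.1)))
      · simp at hd1'
      · rfl
      · exact absurd hd1' zmod2_two
    obtain ⟨z, hz, rfl⟩ := SquareClass.eq_orefl_of_range h2 hP d hrk
    exact ⟨z, hz, hd, by rw [← chi_orefl hP h2 hnU hz]; exact hdy⟩
  obtain ⟨T, hTcard, hTgen, -⟩ := SymSylow.Generated.exists_goodSub 2 m
  -- the 2-group
  let A₁ : (Fin m → (D : Subgroup (orth P))) →* orth (QuadraticMap.pi fun _ : Fin m => P) :=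
    (orthPi fun _ : Fin m => P).comp
      (MonoidHom.pi fun i => (D : Subgroup (orth P)).subtype.comp (Pi.evalMonoidHom _ i))
  let A₂ : T →* orth (QuadraticMap.pi fun _ : Fin m => P) := (orthPerm P).comp T.subtype
  have hcompat : ∀ t : T, A₁.comp (mulAutArrow t).toMonoidHom =
      (MulAut.conj (A₂ t)).toMonoidHom.comp A₁ := by
    intro t
    refine MonoidHom.ext fun g => ?_
    show A₁ (mulAutArrow t g) = A₂ t * A₁ g * (A₂ t)⁻¹
    rw [eq_mul_inv_iff_mul_eq]
    exact Subtype.ext (LinearEquiv.ext fun v => funext fun i => by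
      show (g (t⁻¹ • i)).1.1 (v ((t : Equiv.Perm (Fin m)).symm i)) =
        (g ((t : Equiv.Perm (Fin m)).symm i)).1.1 (v ((t : Equiv.Perm (Fin m)).symm i))
      rfl)
  let AT := SemidirectProduct.lift A₁ A₂ hcompat
  let sgnHom : ℤˣ →* Fˣ := Units.map (Int.castRingHom F).toMonoidHom
  let lineO : ∀ j : Fin l, ℤˣ →* orth (qOne (c j)) := fun j =>
    { toFun := fun u => ⟨LinearEquiv.smulOfUnit (sgnHom u), fun x => by
        show qOne (c j) (((sgnHom u : Fˣ) : F) * x) = _
        rw [qOne_apply, qOne_apply]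
        rcases Int.units_eq_one_or u with rfl | rfl <;> simp [sgnHom]⟩
      map_one' := Subtype.ext (LinearEquiv.ext fun x => show ((sgnHom 1 : Fˣ) : F) * x = x by simp)
      map_mul' := fun u v => Subtype.ext (LinearEquiv.ext fun x => show ((sgnHom (u * v) : Fˣ) : F) * x =
        ((sgnHom u : Fˣ) : F) * (((sgnHom v : Fˣ) : F) * x) by rw [map_mul, Units.val_mul, mul_assoc]) }
  let B : (Fin l → ℤˣ) →* orth (QuadraticMap.pi fun j => qOne (c j)) :=
    (orthPi fun j => qOne (c j)).comp (MonoidHom.pi fun j => (lineO j).comp (Pi.evalMonoidHom _ j))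
  let Φ : ((Fin m → (D : Subgroup (orth P))) ⋊[mulAutArrow] T) × (Fin l → ℤˣ) →* orth Q := (orthProd (QuadraticMap.pi fun _ : Fin m => P) (QuadraticMap.pi fun j => qOne (c j))).comp
    (MonoidHom.prodMap AT B)
  have hline_inj : ∀ j, Function.Injective (lineO j) := by
    intro j u v h
    have h1 : ((sgnHom u : Fˣ) : F) * 1 = ((sgnHom v : Fˣ) : F) * 1 :=
      LinearEquiv.congr_fun (congrArg Subtype.val h) (1 : F)
    rcases Int.units_eq_one_or u with rfl | rfl <;> rcases Int.units_eq_one_or v with rfl | rfl <;>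
      simp [sgnHom] at h1 ⊢
    · exact absurd (by linear_combination h1) h2
    · exact absurd (by linear_combination -h1) h2
  have hATinj : Function.Injective AT := by
    refine (injective_iff_map_eq_one AT).2 fun w hw => ?_
    have happ : ∀ (v : Fin m → U) i, (w.left i).1.1 (v ((w.right : Equiv.Perm (Fin m)).symm i)) = v i := by
      intro v i
      have := congrFun (LinearEquiv.congr_fun (congrArg Subtype.val hw) v) i
      exact this
    have hr : ∀ i, (w.right : Equiv.Perm (Fin m)).symm i = i := by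
      intro i
      by_contra hne
      have h0 := happ (Pi.single i (b 0)) i
      rw [Pi.single_eq_of_ne hne, map_zero, Pi.single_eq_same] at h0
      exact b.ne_zero 0 h0.symm
    refine SemidirectProduct.ext (funext fun i => Subtype.ext (Subtype.ext (LinearEquiv.ext fun z => ?_)))
      (Subtype.ext (Equiv.ext fun i => ?_))
    · have := happ (Pi.single i z) i
      rwa [hr i, Pi.single_eq_same] at this
    · show (w.right : Equiv.Perm (Fin m)) i = i
      conv_lhs => rw [← hr i]
      rw [Equiv.apply_symm_apply]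
  have hΦinj : Function.Injective Φ := by
    refine (orthProd_injective _ _).comp ?_
    rw [MonoidHom.coe_prodMap]
    refine hATinj.prodMap ?_
    exact (orthPi_injective _).comp fun u v h => funext fun j => hline_inj j (congrFun h j)
  let Y := Φ.range
  have hYcard : Nat.card Y = 2 ^ (Nat.card (orth Q)).factorization 2 := by
    rw [← Nat.card_congr (MonoidHom.ofInjective hΦinj).toEquiv, Nat.card_prod,
      SemidirectProduct.card, Nat.card_fun, Nat.card_fun, Nat.card_fin, Nat.card_fin,
      Sylow.card_eq_multiplicity, hTcard, Fintype.card_fin, hcard, pow_add, pow_add, ← pow_mul,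
      mul_comm m]
    simp
  -- reflections in `Y`
  let e : Fin m → U → (Fin m → U) × (Fin l → F) := fun i z => (Pi.single i z, 0)
  have hQe : ∀ i z, Q (e i z) = P z := fun i z => by
    show mQ P c (Pi.single i z, 0) = P z
    rw [mQ, QuadraticMap.prod_apply, pi_single, QuadraticMap.map_zero, add_zero]
  have heY : ∀ i z (hz : orefl P z ∈ (D : Subgroup (orth P))),
      Φ (SemidirectProduct.inl (Pi.mulSingle i ⟨orefl P z, hz⟩), 1) = orefl Q (e i z) := by
    intro i z hz
    show orthProd _ _ (AT (SemidirectProduct.inl _), B 1) = _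
    rw [SemidirectProduct.lift_inl, map_one]
    have : A₁ (Pi.mulSingle i ⟨orefl P z, hz⟩) =
        orefl (QuadraticMap.pi fun _ : Fin m => P) (Pi.single i z) := by
      rw [← orthPi_orefl (fun _ : Fin m => P) i z]
      show orthPi _ _ = _
      congr 1
      funext k
      rcases eq_or_ne k i with rfl | h
      · simp
      · simp [Pi.mulSingle_eq_of_ne h]
    rw [this, orthProd_orefl_left]
  have hχe : ∀ i z, P z ≠ 0 → χ (orefl Q (e i z)) = cls (P z) := fun i z hz => by
    rw [chi_orefl hQ h2 hn (by rw [hQe]; exact hz), hQe]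
  let X := Subgroup.closure {g : orth Q | g ∈ Y ∧ χ g = 1 ∧ g * g = 1}
  have hXY : X ≤ Y := (Subgroup.closure_le _).2 fun g hg => hg.1
  have hXker : ∀ x ∈ X, χ x = 1 := fun x hx =>
    MonoidHom.mem_ker.1 ((Subgroup.closure_le _).2 (fun g hg => MonoidHom.mem_ker.2 hg.2.1) hx)
  have hXnorm : ∀ y ∈ Y, ∀ x ∈ X, y * x * y⁻¹ ∈ X := by
    intro y hy x hx
    induction hx using Subgroup.closure_induction with
    | mem g hg =>
      refine Subgroup.subset_closure ⟨mul_mem (mul_mem hy hg.1) (inv_mem hy), ?_, ?_⟩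
      · rw [map_mul, map_mul, hg.2.1, mul_one, map_inv, mul_inv_cancel]
      · rw [show y * g * y⁻¹ * (y * g * y⁻¹) = y * (g * g) * y⁻¹ by group, hg.2.2, mul_one,
          mul_inv_cancel]
    | one => simp
    | mul u v _ _ hu hv =>
      rw [show y * (u * v) * y⁻¹ = (y * u * y⁻¹) * (y * v * y⁻¹) by group]
      exact mul_mem hu hv
    | inv u _ hu =>
      rw [show y * u⁻¹ * y⁻¹ = (y * u * y⁻¹)⁻¹ by group]
      exact inv_mem hu
  have hcomm : ∀ u v : (Fin m → U) × (Fin l → F), polar Q u v = 0 →
      orefl Q u * orefl Q v = orefl Q v * orefl Q u := by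
    intro u v huv
    have h1 : orefl Q u * orefl Q v * (orefl Q u)⁻¹ = orefl Q v := by
      have : orefl Q u * orefl Q v * (orefl Q u)⁻¹ = orefl Q (refl Q u v) :=
        Subtype.ext (refl_conj (refl_mem Q u) v)
      rwa [refl_fix Q huv] at this
    rwa [mul_inv_eq_iff_eq_mul] at h1
  have hinv : ∀ u, orefl Q u * orefl Q u = 1 := fun u => Subtype.ext (refl_mul_self Q u)
  have hpairX : ∀ u v, orefl Q u ∈ Y → orefl Q v ∈ Y → polar Q u v = 0 →
      χ (orefl Q u) = χ (orefl Q v) → orefl Q u * orefl Q v ∈ X := by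
    intro u v hu hv huv heq
    refine Subgroup.subset_closure ⟨mul_mem hu hv, ?_, ?_⟩
    · rw [map_mul, heq, ← map_mul, hinv, map_one]
    · rw [show orefl Q u * orefl Q v * (orefl Q u * orefl Q v) =
        orefl Q u * (orefl Q v * orefl Q u) * orefl Q v by group, ← hcomm u v huv,
        show orefl Q u * (orefl Q u * orefl Q v) * orefl Q v =
          (orefl Q u * orefl Q u) * (orefl Q v * orefl Q v) by group, hinv, hinv, one_mul]
  -- representatives
  let i0 : Fin m := ⟨0, by omega⟩
  let i1 : Fin m := ⟨1, by omega⟩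
  have hi01 : i0 ≠ i1 := fun h => by simpa [i0, i1] using congrArg Fin.val h
  obtain ⟨z1, hz1, hz1D, hz1c⟩ := hrefl 1 one_ne_zero
  obtain ⟨z2, hz2, hz2D, hz2c⟩ := hrefl ν hν0
  have hpe : ∀ i j z z', i ≠ j → polar Q (e i z) (e j z') = 0 := fun i j z z' h => by
    show polar ((QuadraticMap.pi fun _ : Fin m => P).prod (QuadraticMap.pi fun j => qOne (c j)))
      (Pi.single i z, 0) (Pi.single j z', 0) = 0
    rw [prod_polar, pi_polar_single]
    show polar P z (Pi.single (M := fun _ => U) j z' i) + polar (QuadraticMap.pi fun j => qOne (c j)) 0 0 = 0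
    rw [Pi.single_eq_of_ne h, polar_zero_right, polar_zero_left, add_zero]
  set a := orefl Q (e i0 z1)
  set a' := orefl Q (e i1 z2)
  have hY1 : ∀ i z, orefl P z ∈ (D : Subgroup (orth P)) → orefl Q (e i z) ∈ Y :=
    fun i z hz => ⟨_, heY i z hz⟩
  set M := X ⊔ Subgroup.closure {a, a'}
  have haM : a ∈ M := Subgroup.mem_sup_right (Subgroup.subset_closure (by simp))
  have ha'M : a' ∈ M := Subgroup.mem_sup_right (Subgroup.subset_closure (by simp))
  have hXM : X ≤ M := le_sup_left
  -- every reflection of a plane lies in M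
  have hvia : ∀ u v, orefl Q u ∈ Y → orefl Q v ∈ Y → polar Q u v = 0 →
      χ (orefl Q u) = χ (orefl Q v) → orefl Q v ∈ M → orefl Q u ∈ M := by
    intro u v hu hv huv heq hvM
    have := mul_mem (hXM (hpairX u v hu hv huv heq)) hvM
    rwa [mul_assoc, hinv, mul_one] at this
  have hplane : ∀ i z, P z ≠ 0 → orefl P z ∈ (D : Subgroup (orth P)) → orefl Q (e i z) ∈ M := by
    intro i z hz hzD
    rcases cls_cases (s := P z) hν with hs | hs
    · by_cases hi : i = i0
      · refine hvia _ (e i1 z1) (hY1 i z hzD) (hY1 _ _ hz1D) (hpe _ _ _ _ (hi ▸ hi01)) ?_ ?_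
        · rw [hχe i z hz, hχe i1 z1 hz1, hs, hz1c]
        · exact hvia _ (e i0 z1) (hY1 _ _ hz1D) (hY1 _ _ hz1D) (hpe _ _ _ _ hi01.symm)
            (by rw [hχe i1 z1 hz1, hχe i0 z1 hz1]) haM
      · exact hvia _ (e i0 z1) (hY1 i z hzD) (hY1 _ _ hz1D) (hpe _ _ _ _ hi)
          (by rw [hχe i z hz, hχe i0 z1 hz1, hs, hz1c]) haM
    · by_cases hi : i = i1
      · refine hvia _ (e i0 z2) (hY1 i z hzD) (hY1 _ _ hz2D) (hpe _ _ _ _ (hi ▸ hi01.symm)) ?_ ?_
        · rw [hχe i z hz, hχe i0 z2 hz2, hs, hz2c]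
        · exact hvia _ (e i1 z2) (hY1 _ _ hz2D) (hY1 _ _ hz2D) (hpe _ _ _ _ hi01)
            (by rw [hχe i0 z2 hz2, hχe i1 z2 hz2]) ha'M
      · exact hvia _ (e i1 z2) (hY1 i z hzD) (hY1 _ _ hz2D) (hpe _ _ _ _ hi)
          (by rw [hχe i z hz, hχe i1 z2 hz2, hs, hz2c]) ha'M
  -- generators of Y
  have hgenD : ∀ i (d : (D : Subgroup (orth P))),
      Φ (SemidirectProduct.inl (Pi.mulSingle i d), 1) ∈ M := by
    intro i d
    have hodd : ∀ d : (D : Subgroup (orth P)), dickson P d.1 = 1 →
        Φ (SemidirectProduct.inl (Pi.mulSingle i d), 1) ∈ M := by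
      intro d hd
      have hrk : finrank F (LinearMap.range (dev d.1.1)) = 1 := by
        have hle : finrank F (LinearMap.range (dev d.1.1)) ≤ 2 := (Submodule.finrank_le _).trans hU.le
        have hd1' : ((finrank F (LinearMap.range (dev d.1.1)) : ℕ) : ZMod 2) = 1 := hd
        interval_cases (finrank F (LinearMap.range (dev d.1.1)))
        · simp at hd1'
        · rfl
        · exact absurd hd1' zmod2_two
      obtain ⟨z, hz, hdz⟩ := SquareClass.eq_orefl_of_range h2 hP d.1 hrk
      have hzD : orefl P z ∈ (D : Subgroup (orth P)) := by rw [← hdz]; exact d.2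
      rw [show d = ⟨orefl P z, hzD⟩ from Subtype.ext hdz, heY]
      exact hplane i z hz hzD
    by_cases hd : dickson P d.1 = 1
    · exact hodd d hd
    · have h1 : dickson P (d.1 * orefl P z1) = 1 := by
        rw [dickson_mul_orefl hP _ hz1]
        exact zmod2_flip _ hd
      have hzd : d = (d * ⟨orefl P z1, hz1D⟩) * ⟨orefl P z1, hz1D⟩ := Subtype.ext (by
        show d.1 = d.1 * orefl P z1 * orefl P z1
        rw [mul_assoc, show orefl P z1 * orefl P z1 = 1 from Subtype.ext (refl_mul_self P z1), mul_one])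
      show (Φ.comp ((MonoidHom.inl _ (Fin l → ℤˣ)).comp SemidirectProduct.inl)) (Pi.mulSingle i d) ∈ M
      rw [hzd, Pi.mulSingle_mul, map_mul]
      exact mul_mem (hodd _ h1) (hodd _ (dickson_orefl hP hz1))
  have hperm : ∀ t : Equiv.Perm (Fin m), χ (orthProd (QuadraticMap.pi fun _ : Fin m => P)
      (QuadraticMap.pi fun j => qOne (c j)) (orthPerm P t, 1)) = 1 := by
    intro t
    induction t using Equiv.Perm.swap_induction_on with
    | one => rw [map_one, Prod.mk_one_one, map_one, map_one]
    | swap_mul τ x y hxy ih =>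
      have hne : ∀ k : Fin 2, P (b k) ≠ 0 := by
        intro k hk
        refine b.ne_zero k (hP _ fun w => ?_)
        rw [← b.sum_repr w, Fin.sum_univ_two, polar_add_right, polar_smul_right, polar_smul_right]
        fin_cases k <;>
          simp [polar_self', hb, polar_comm P (b 1) (b 0)] at hk ⊢ <;> simp [hk]
      rw [map_mul, ← mul_one (1 : orth (QuadraticMap.pi fun j => qOne (c j))), ← Prod.mk_mul_mk,
        map_mul, map_mul, ih, mul_one, orthPerm_swap P h2 b hb (hne 0) (hne 1) hxy,
        ← mul_one (1 : orth (QuadraticMap.pi fun j => qOne (c j))), ← Prod.mk_mul_mk,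
        map_mul, orthProd_orefl_left, orthProd_orefl_left, map_mul]
      have hval : ∀ k, Q (Pi.single x (b k) - Pi.single y (b k), 0) = 2 * P (b k) := fun k => by
        show mQ P c _ = _
        rw [mQ, QuadraticMap.prod_apply, QuadraticMap.map_zero, add_zero, sub_eq_add_neg, Q_add,
          polar_neg_right, QuadraticMap.map_neg, pi_single, pi_single, pi_polar_single,
          Pi.single_eq_of_ne hxy, polar_zero_right]
        ring
      have hnz : ∀ k, Q (Pi.single x (b k) - Pi.single y (b k), 0) ≠ 0 := fun k => by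
        rw [hval]; exact mul_ne_zero h2 (hne k)
      rw [chi_orefl hQ h2 hn (hnz 0), chi_orefl hQ h2 hn (hnz 1), hval, hval]
      have hsq : IsSquare (2 * P (b 0)) ↔ IsSquare (2 * P (b 1)) := by
        have h4 : IsSquare (2 * P (b 0) * (2 * P (b 1))) := by
          rw [show 2 * P (b 0) * (2 * P (b 1)) = (2 * 2) * (P (b 0) * P (b 1)) by ring]
          exact (IsSquare.mul_self 2).mul hbsq
        refine ⟨fun h => ?_, fun h => ?_⟩
        · have := h4.div h
          rwa [mul_div_cancel_left₀ _ (mul_ne_zero h2 (hne 0))] at this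
        · have := h4.div h
          rwa [mul_div_cancel_right₀ _ (mul_ne_zero h2 (hne 1))] at this
      simp only [cls, hsq]
      split_ifs <;> exact ofAdd_sq _
  have hgenT : ∀ t : T, Φ (SemidirectProduct.inr t, 1) ∈ M := by
    intro t
    suffices ∀ s ∈ Subgroup.closure {x | x ∈ T ∧ x ^ 2 = 1}, ∃ hs : s ∈ T,
        Φ (SemidirectProduct.inr ⟨s, hs⟩, 1) ∈ M by
      obtain ⟨_, h⟩ := this t.1 (hTgen t.2)
      exact h
    intro s hs
    induction hs using Subgroup.closure_induction with
    | mem x hx =>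
      refine ⟨hx.1, hXM (Subgroup.subset_closure ⟨⟨_, rfl⟩, ?_, ?_⟩)⟩
      · show χ (orthProd _ _ (AT (SemidirectProduct.inr _), B 1)) = 1
        rw [SemidirectProduct.lift_inr, map_one]
        exact hperm x
      · have hx2 : (⟨x, hx.1⟩ : T) * ⟨x, hx.1⟩ = 1 := Subtype.ext (by rw [← pow_two] at *; exact hx.2)
        rw [← map_mul, Prod.mk_mul_mk, ← map_mul SemidirectProduct.inr, hx2, map_one, one_mul,
          Prod.mk_one_one, map_one]
    | one => exact ⟨one_mem T, by
        rw [show (⟨1, one_mem T⟩ : T) = 1 from rfl, map_one, Prod.mk_one_one, map_one]; exact one_mem M⟩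
    | mul u v _ _ hu hv =>
      obtain ⟨hu, hu'⟩ := hu
      obtain ⟨hv, hv'⟩ := hv
      refine ⟨mul_mem hu hv, ?_⟩
      have := mul_mem hu' hv'
      rwa [← map_mul, Prod.mk_mul_mk, ← map_mul SemidirectProduct.inr, one_mul] at this
    | inv u _ hu =>
      obtain ⟨hu, hu'⟩ := hu
      refine ⟨inv_mem hu, ?_⟩
      have := inv_mem hu'
      rwa [← map_inv, Prod.inv_mk, ← map_inv SemidirectProduct.inr, inv_one] at this
  have hgenL : ∀ j, Φ (1, Pi.mulSingle j (-1)) ∈ M := by
    intro j
    have hval : Q (0, Pi.single j 1) = c j := by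
      show mQ P c _ = _
      rw [mQ, QuadraticMap.prod_apply, QuadraticMap.map_zero, zero_add, pi_single, qOne_apply]
      ring
    have hΦ : Φ (1, Pi.mulSingle j (-1)) = orefl Q (0, Pi.single j 1) := by
      show orthProd _ _ (AT 1, B (Pi.mulSingle j (-1))) = _
      rw [map_one]
      have : B (Pi.mulSingle j (-1)) =
          orefl (QuadraticMap.pi fun j => qOne (c j)) (Pi.single j 1) := by
        rw [← orthPi_orefl (fun j => qOne (c j)) j 1]
        show orthPi _ _ = _
        congr 1
        funext k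
        rcases eq_or_ne k j with rfl | h
        · simp only [MonoidHom.pi_apply, MonoidHom.comp_apply, Pi.evalMonoidHom_apply,
            Pi.mulSingle_eq_same]
          refine Subtype.ext (LinearEquiv.ext fun x => ?_)
          show ((sgnHom (-1) : Fˣ) : F) * x = refl (qOne (c k)) 1 x
          rw [refl_apply, qOne_apply]
          simp only [polar, qOne_apply, sgnHom, smul_eq_mul]
          have := hc k
          simp
          field_simp
          ring
        · simp [Pi.mulSingle_eq_of_ne h]
      rw [this, orthProd_orefl_right]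
    have hpel : ∀ i z, polar Q (0, Pi.single j 1) (e i z) = 0 := fun i z => by
      show polar ((QuadraticMap.pi fun _ : Fin m => P).prod (QuadraticMap.pi fun j => qOne (c j)))
        (0, Pi.single j 1) (Pi.single i z, 0) = 0
      rw [prod_polar, polar_zero_left, polar_zero_right, zero_add]
    have hY : orefl Q (0, Pi.single j 1) ∈ Y := ⟨_, hΦ⟩
    have hne : Q (0, Pi.single j 1) ≠ 0 := by rw [hval]; exact hc j
    rw [hΦ]
    rcases cls_cases (s := c j) hν with hs | hs
    · exact hvia _ (e i0 z1) hY (hY1 _ _ hz1D) (hpel _ _)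
        (by rw [chi_orefl hQ h2 hn hne, hval, hχe i0 z1 hz1, hs, hz1c]) haM
    · exact hvia _ (e i1 z2) hY (hY1 _ _ hz2D) (hpel _ _)
        (by rw [chi_orefl hQ h2 hn hne, hval, hχe i1 z2 hz2, hs, hz2c]) ha'M
  have hYM : ∀ y ∈ Y, y ∈ M := by
    rintro _ ⟨⟨w, ε⟩, rfl⟩
    have hw : (w, ε) = (SemidirectProduct.inl w.left, (1 : Fin l → ℤˣ)) *
        (SemidirectProduct.inr w.right, 1) * (1, ε) := by
      simp [SemidirectProduct.inl_left_mul_inr_right]
    rw [hw, map_mul, map_mul]
    refine mul_mem (mul_mem ?_ (hgenT _)) ?_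
    · let g := Φ.comp ((MonoidHom.inl _ (Fin l → ℤˣ)).comp SemidirectProduct.inl)
      show w.left ∈ M.comap g
      exact Subgroup.pi_mem_of_mulSingle_mem _ fun i => hgenD i (w.left i)
    · let g := Φ.comp (MonoidHom.inr ((Fin m → (D : Subgroup (orth P))) ⋊[mulAutArrow] T) _)
      show ε ∈ M.comap g
      refine Subgroup.pi_mem_of_mulSingle_mem _ fun j => ?_
      rcases Int.units_eq_one_or (ε j) with h | h <;> rw [h]
      · rw [Pi.mulSingle_one]; exact one_mem _
      · exact hgenL j
  have hcA : χ a = cls (1 : F) := by rw [hχe i0 z1 hz1, hz1c]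
  have hcA' : χ a' = cls ν := by rw [hχe i1 z2 hz2, hz2c]
  have hker : ∀ y ∈ Y, χ y = 1 → y ∈ X := fun y hy hχy =>
    mem_of_ker χ hXker (hinv _) (hinv _) (hcomm _ _ (hpe _ _ _ _ hi01))
      (fun x hx => hXnorm _ (hY1 _ _ hz1D) x hx) (fun x hx => hXnorm _ (hY1 _ _ hz2D) x hx)
      (by rw [hcA]; exact cls_ne_one _) (by rw [hcA']; exact cls_ne_one _)
      (by rw [hcA, hcA']; exact cls_mul_ne hν) (hYM y hy) hχy
  -- the Sylow subgroup
  intro G _ _ eG S x
  let K := commutator (orth Q)
  let W : Subgroup G := (Y.subgroupOf K).map eG.symm.toMonoidHom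
  have hkerK : χ.ker = K := Subgroup.ext fun g => chi_eq_one_iff hQ h2 hn g
  have hYK : Nat.card Y = Nat.card ↥(Y.subgroupOf K) * 4 := by
    have hsurj : Function.Surjective (χ.comp Y.subtype) := by
      have h1 : cls (1 : F) ∈ (χ.comp Y.subtype).range := ⟨⟨a, hY1 _ _ hz1D⟩, hcA⟩
      have h2' : cls ν ∈ (χ.comp Y.subtype).range := ⟨⟨a', hY1 _ _ hz2D⟩, hcA'⟩
      rintro ⟨d, s⟩
      have h3 := mul_mem h1 h2'
      have h4 := one_mem (χ.comp Y.subtype).range
      simp only [cls, IsSquare.one, if_true, hν, if_false] at h1 h2' h3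
      revert h1 h2' h3 h4
      rcases Int.units_eq_one_or s with rfl | rfl <;>
        (revert d; intro d; fin_cases d) <;> intro h1 h2' h3 h4 <;>
        first | exact h1 | exact h2' | exact h3 | exact h4
    have h := (χ.comp Y.subtype).ker.card_mul_index
    rw [Subgroup.index_ker, MonoidHom.range_eq_top.2 hsurj, Subgroup.card_top, Nat.card_prod,
      show Nat.card (Multiplicative (ZMod 2)) = 2 from
        (Nat.card_congr Multiplicative.toAdd).trans (Nat.card_zmod 2),
      show Nat.card ℤˣ = 2 by rw [Nat.card_eq_fintype_card, Fintype.card_units_int]] at h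
    rw [← h]
    congr 1
    refine Nat.card_congr
      { toFun := fun g => ⟨⟨g.1.1, by rw [← hkerK]; exact g.2⟩, g.1.2⟩
        invFun := fun g => ⟨⟨g.1.1, g.2⟩, by rw [MonoidHom.mem_ker]; exact (chi_eq_one_iff hQ h2 hn _).2 g.1.2⟩
        left_inv := fun g => rfl
        right_inv := fun g => rfl }
  have hG : Nat.card (orth Q) = Nat.card G * 4 := by
    rw [Nat.card_congr eG.toEquiv, ← index_commutator_odd hQ h2 hn]
    exact (Subgroup.card_mul_index _).symm
  have hWcard : Nat.card W = 2 ^ (Nat.card G).factorization 2 := by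
    rw [Subgroup.card_map_of_injective eG.symm.injective]
    refine Nat.eq_of_mul_eq_mul_right (show 0 < 4 by norm_num) ?_
    rw [← hYK, hYcard, hG, Nat.factorization_mul Nat.card_pos.ne' (by norm_num), Finsupp.add_apply,
      show (4 : ℕ) = 2 ^ 2 by norm_num, Nat.Prime.factorization_pow Nat.prime_two,
      Finsupp.single_eq_same, pow_add]
  refine SymSylow.Generated.sylow_pow_mem_commutator 2 (W := Sylow.ofCard W hWcard) ?_ S x
  intro w hw
  obtain ⟨k, hk, rfl⟩ := hw
  have hkX : (k : orth Q) ∈ X := hker _ hk ((chi_eq_one_iff hQ h2 hn _).2 k.2)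
  have hgoal : ∀ g ∈ X, ∀ hg : g ∈ K, eG.symm ⟨g, hg⟩ ∈
      Subgroup.closure {x | x ∈ W ∧ x ^ 2 = 1} := by
    intro g hg
    suffices ∃ hg : g ∈ K, eG.symm ⟨g, hg⟩ ∈ Subgroup.closure {x | x ∈ W ∧ x ^ 2 = 1} by
      intro _; exact this.2
    induction hg using Subgroup.closure_induction with
    | mem u hu =>
      have huK : u ∈ K := hkerK ▸ MonoidHom.mem_ker.2 hu.2.1
      refine ⟨huK, Subgroup.subset_closure ⟨⟨⟨u, huK⟩, hu.1, rfl⟩, ?_⟩⟩
      rw [← map_pow, show (⟨u, huK⟩ : K) ^ 2 = 1 from Subtype.ext (by rw [pow_two]; exact hu.2.2),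
        map_one]
    | one => exact ⟨one_mem K, by
        rw [show (⟨1, one_mem K⟩ : K) = 1 from rfl, map_one]; exact one_mem _⟩
    | mul u v _ _ hu hv =>
      exact ⟨mul_mem hu.1 hv.1, by
        rw [show (⟨u * v, mul_mem hu.1 hv.1⟩ : K) = ⟨u, hu.1⟩ * ⟨v, hv.1⟩ from rfl, map_mul]
        exact mul_mem hu.2 hv.2⟩
    | inv u _ hu =>
      exact ⟨inv_mem hu.1, by
        rw [show (⟨u⁻¹, inv_mem hu.1⟩ : K) = (⟨u, hu.1⟩ : K)⁻¹ from rfl, map_inv]
        exact inv_mem hu.2⟩
  exact hgoal _ hkX k.2

end Model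

end Cfsg.Agent.Lib.SylowOrth52
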