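/-
The orthogonal groups over a field of odd order as orthogonal sums of equal planes and lines, with
the 2-parts of their orders; consequence for the Sylow 2-subgroups of the commutator subgroups.
-/
import Cfsg.Agent.Lib.SylowOrth52.Model
import Cfsg.Agent.Lib.OrthStd.Models
import Cfsg.Agent.Lib.Orth52.Discriminant
import Cfsg.Agent.S2623

set_option autoImplicit false
set_option linter.unusedSectionVars false

namespace Cfsg.Agent.Lib.SylowOrth52

open Module QuadraticMap
open Cfsg.Agent.Lib.Forms Cfsg.Agent.Lib.Orth52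

variable {F : Type*} [Field F]

/-! ### Gram determinants -/

section Gram

variable {V W : Type*} [AddCommGroup V] [Module F V] [AddCommGroup W] [Module F W]
  {ι κ : Type*} [Fintype ι] [DecidableEq ι] [Fintype κ] [DecidableEq κ]

/-- The determinant of the Gram matrix in a basis. -/
noncomputable def gdet (Q : QuadraticForm F V) (b : Basis ι F V) : F :=
  (Matrix.of fun i j => polar (⇑Q) (b i) (b j)).det

theorem gdet_reindex (Q : QuadraticForm F V) (b : Basis ι F V) (e : ι ≃ κ) :
    gdet Q (b.reindex e) = gdet Q b := by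
  rw [gdet, gdet, ← Matrix.det_submatrix_equiv_self e.symm (Matrix.of fun i j => polar (⇑Q) (b i) (b j))]
  congr 1
  ext i j
  simp

theorem gdet_prod (Q : QuadraticForm F V) (Q' : QuadraticForm F W) (b : Basis ι F V)
    (b' : Basis κ F W) : gdet (Q.prod Q') (b.prod b') = gdet Q b * gdet Q' b' := by
  rw [gdet, gdet, gdet, ← Matrix.det_fromBlocks_zero₂₁ _ 0 _]
  congr 1
  ext i j
  rcases i with i | i <;> rcases j with j | j <;> simp [prod_polar, Basis.prod_apply]

theorem gdet_diag (Q : QuadraticForm F V) (b : Basis ι F V)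
    (h : ∀ i j, i ≠ j → polar Q (b i) (b j) = 0) : gdet Q b = ∏ i, 2 * Q (b i) := by
  rw [gdet, show (Matrix.of fun i j => polar (⇑Q) (b i) (b j)) =
    Matrix.diagonal fun i => 2 * Q (b i) from ?_, Matrix.det_diagonal]
  ext i j
  rcases eq_or_ne i j with rfl | hij
  · rw [Matrix.diagonal_apply_eq, Matrix.of_apply, polar_self']
  · rw [Matrix.diagonal_apply_ne _ hij, Matrix.of_apply, h i j hij]

theorem equivFun_symm_single (d : Basis ι F V) (i : ι) : d.equivFun.symm (Pi.single i (1 : F)) = d i := by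
  rw [LinearEquiv.symm_apply_eq]
  funext j
  rw [Basis.equivFun_self, Pi.single_apply]
  simp [eq_comm]

theorem exists_isometry [Fintype F] (h2 : (2 : F) ≠ 0) (Q : QuadraticForm F V)
    (Q' : QuadraticForm F W) (b : Basis ι F V) (b' : Basis κ F W)
    (hc : Fintype.card ι = Fintype.card κ) (hQ : Nondeg Q) (hQ' : Nondeg Q')
    (h : IsSquare (gdet Q b * gdet Q' b')) : Q.Equivalent Q' := by
  classical
  let c := b.reindex (Fintype.equivFin ι)
  let c' := b'.reindex (Fintype.equivFinOfCardEq hc.symm)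
  let Q₁ : QuadraticForm F (Fin (Fintype.card ι) → F) := Q.comp c.equivFun.symm.toLinearMap
  let Q₂ : QuadraticForm F (Fin (Fintype.card ι) → F) := Q'.comp c'.equivFun.symm.toLinearMap
  have hp₁ : ∀ u v, polar Q₁ u v = polar Q (c.equivFun.symm u) (c.equivFun.symm v) := fun u v => by
    simp only [polar, Q₁, QuadraticMap.comp_apply, LinearEquiv.coe_coe, map_add]
  have hp₂ : ∀ u v, polar Q₂ u v = polar Q' (c'.equivFun.symm u) (c'.equivFun.symm v) := fun u v => by
    simp only [polar, Q₂, QuadraticMap.comp_apply, LinearEquiv.coe_coe, map_add]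
  have hn₁ : Nondeg Q₁ := fun x hx => c.equivFun.symm.map_eq_zero_iff.1 (hQ _ fun y => by
    simpa [hp₁] using hx (c.equivFun y))
  have hn₂ : Nondeg Q₂ := fun x hx => c'.equivFun.symm.map_eq_zero_iff.1 (hQ' _ fun y => by
    simpa [hp₂] using hx (c'.equivFun y))
  have hg₁ : (Matrix.of fun i j => polar Q₁ (Pi.single i 1) (Pi.single j 1)).det = gdet Q b := by
    rw [← gdet_reindex Q b (Fintype.equivFin ι), gdet]
    simp only [hp₁, equivFun_symm_single, c]
  have hg₂ : (Matrix.of fun i j => polar Q₂ (Pi.single i 1) (Pi.single j 1)).det = gdet Q' b' := by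
    rw [← gdet_reindex Q' b' (Fintype.equivFinOfCardEq hc.symm), gdet]
    simp only [hp₂, equivFun_symm_single, c']
  obtain ⟨g, hg⟩ := (Cfsg.Agent.S2623.result h2 Q₁ Q₂ ((nondeg_iff _).2 hn₁) ((nondeg_iff _).2 hn₂)).2
    (by rw [hg₁, hg₂]; exact h)
  refine ⟨{ (c.equivFun.trans g).trans c'.equivFun.symm with map_app' := fun v => ?_ }⟩
  show Q' (c'.equivFun.symm (g (c.equivFun v))) = Q v
  have := hg (c.equivFun v)
  simp only [Q₁, Q₂, QuadraticMap.comp_apply, LinearEquiv.coe_coe, LinearEquiv.symm_apply_apply] at this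
  exact this

end Gram

/-! ### Powers of two -/

theorem v2_mul {a b : ℕ} (ha : a ≠ 0) (hb : b ≠ 0) :
    (a * b).factorization 2 = a.factorization 2 + b.factorization 2 := by
  rw [Nat.factorization_mul ha hb, Finsupp.add_apply]

theorem v2_two : (2 : ℕ).factorization 2 = 1 := Nat.prime_two.factorization_self

theorem v2_of_mod_four {n : ℕ} (h : n % 4 = 2) : n.factorization 2 = 1 := by
  rw [show n = 2 * (n / 2) by omega, v2_mul (by norm_num) (by omega), v2_two,
    Nat.factorization_eq_zero_of_not_dvd (by omega)]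

theorem v2_pow_odd {q : ℕ} (hq : q % 2 = 1) (k : ℕ) : (q ^ k).factorization 2 = 0 :=
  Nat.factorization_eq_zero_of_not_dvd fun h => by
    have := Nat.prime_two.dvd_of_dvd_pow h
    omega

/-- The 2-part of `q² − 1`. -/
def tq (q : ℕ) : ℕ := ((q - 1) * (q + 1)).factorization 2

theorem v2_pow_sub {q i : ℕ} (h1 : 1 < q) (hq : q % 2 = 1) (hi : i ≠ 0) :
    (q ^ (2 * i) - 1).factorization 2 = tq q + i.factorization 2 := by
  haveI : Fact (Nat.Prime 2) := ⟨Nat.prime_two⟩
  have h := padicValNat.pow_two_sub_one (x := q) (n := 2 * i) h1 (by omega) (by omega) (even_two_mul i)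
  simp only [← Nat.factorization_def _ Nat.prime_two] at h
  rw [v2_mul (by norm_num) hi, v2_two] at h
  rw [tq, v2_mul (by omega) (by omega)]
  omega

theorem prod_pow_ne_zero {q : ℕ} (h1 : 1 < q) (k : ℕ) :
    ∏ i ∈ Finset.range k, (q ^ (2 * (i + 1)) - 1) ≠ 0 := by
  refine Finset.prod_ne_zero_iff.2 fun i _ => ?_
  have : q ≤ q ^ (2 * (i + 1)) := Nat.le_self_pow (by omega) q
  omega

theorem v2_prod {q : ℕ} (h1 : 1 < q) (hq : q % 2 = 1) (k : ℕ) :
    (∏ i ∈ Finset.range k, (q ^ (2 * (i + 1)) - 1)).factorization 2 =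
      k * tq q + k.factorial.factorization 2 := by
  induction k with
  | zero => simp
  | succ k ih =>
    have : q ≤ q ^ (2 * (k + 1)) := Nat.le_self_pow (by omega) q
    rw [Finset.prod_range_succ, v2_mul (prod_pow_ne_zero h1 k) (by omega), ih,
      v2_pow_sub h1 hq (by omega), Nat.factorial_succ, v2_mul (by omega) k.factorial_ne_zero,
      Nat.succ_mul]
    omega

theorem v2_pow_sub_add {q m : ℕ} (h1 : 1 < q) (hq : q % 2 = 1) (hm : m ≠ 0) :
    (q ^ m - 1).factorization 2 + (q ^ m + 1).factorization 2 = tq q + m.factorization 2 := by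
  have : q ≤ q ^ m := Nat.le_self_pow hm q
  rw [← v2_mul (by omega) (by omega), mul_comm, ← Nat.sq_sub_sq, one_pow, ← pow_mul, mul_comm m,
    v2_pow_sub h1 hq hm]

theorem isSquare_sign_iff [Fintype F] {q : ℕ} (hF : Fintype.card F = q) (hq : q % 2 = 1) (m : ℕ) :
    IsSquare ((-1 : F) ^ m) ↔ q ^ m % 4 = 1 := by
  rcases Nat.even_or_odd m with ⟨k, rfl⟩ | ⟨k, rfl⟩
  · rw [(Even.add_self k).neg_one_pow]
    refine iff_of_true IsSquare.one ?_
    rw [← two_mul, pow_mul, Nat.pow_mod, Nat.pow_mod q 2 4]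
    have : q % 4 = 1 ∨ q % 4 = 3 := by omega
    rcases this with h | h <;> simp [h]
  · rw [Odd.neg_one_pow ⟨k, rfl⟩, FiniteField.isSquare_neg_one_iff, hF, pow_succ, pow_mul,
      Nat.mul_mod, Nat.pow_mod, Nat.pow_mod q 2 4]
    have : q % 4 = 1 ∨ q % 4 = 3 := by omega
    rcases this with h | h <;> simp [h]

/-! ### The decomposition -/

section Decomposition

variable [Fintype F] {U : Type*} [AddCommGroup U] [Module F U] [FiniteDimensional F U]
  {V : Type*} [AddCommGroup V] [Module F V] {ι : Type*} [Fintype ι] [DecidableEq ι]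

theorem sylow_square_aux (h2 : (2 : F) ≠ 0) {q : ℕ} (P : QuadraticForm F U) (hP : Nondeg P)
    (b : Basis (Fin 2) F U) (hb : polar P (b 0) (b 1) = 0) (hbsq : IsSquare (P (b 0) * P (b 1)))
    (hPcard : (Nat.card (orth P)).factorization 2 = tq q)
    (Q : QuadraticForm F V) (hQ : Nondeg Q) (bQ : Basis ι F V) (m l : ℕ) (c : Fin l → F)
    (hc : ∀ j, c j ≠ 0) (hm : 2 ≤ m) (hdim : Fintype.card ι = 2 * m + l)
    (hdisc : IsSquare (gdet Q bQ * ∏ j, (2 * c j)))
    (hcard : (Nat.card (orth Q)).factorization 2 = m * tq q + m.factorial.factorization 2 + l)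
    {G : Type*} [Group G] [Finite G] (e : G ≃* commutator (orth Q)) (S : Sylow 2 G)
    (x : (S : Subgroup G)) : x ^ 2 ∈ commutator (S : Subgroup G) := by
  classical
  let bm := (Pi.basis fun _ : Fin m => b).prod (Pi.basisFun F (Fin l))
  have h1 : gdet (QuadraticMap.pi fun _ : Fin m => P) (Pi.basis fun _ : Fin m => b) =
      ∏ _i : Fin m, ((2 * P (b 0)) * (2 * P (b 1))) := by
    rw [gdet_diag]
    · rw [Fintype.prod_sigma]
      refine Finset.prod_congr rfl fun i _ => ?_
      rw [Fin.prod_univ_two, Pi.basis_apply, Pi.basis_apply, pi_single, pi_single]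
    · rintro ⟨i, j⟩ ⟨i', j'⟩ h
      rw [Pi.basis_apply, Pi.basis_apply, pi_polar_single]
      rcases eq_or_ne i i' with rfl | hi
      · have hj : j ≠ j' := fun e => h (by rw [e])
        rw [Pi.single_eq_same]
        fin_cases j <;> fin_cases j' <;> first
          | exact absurd rfl hj
          | exact hb
          | (rw [polar_comm]; exact hb)
      · rw [Pi.single_eq_of_ne hi, polar_zero_right]
  have h1' : gdet (QuadraticMap.pi fun j => qOne (c j)) (Pi.basisFun F (Fin l)) = ∏ j, (2 * c j) := by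
    rw [gdet_diag]
    · refine Finset.prod_congr rfl fun j _ => ?_
      rw [Pi.basisFun_apply, pi_single (fun j => qOne (c j)), qOne_apply]
      ring
    · intro i j h
      rw [Pi.basisFun_apply, Pi.basisFun_apply, pi_polar_single (fun j => qOne (c j)),
        Pi.single_eq_of_ne h, polar_zero_right]
  have hsq : IsSquare (∏ _i : Fin m, ((2 * P (b 0)) * (2 * P (b 1)))) := by
    rw [Finset.prod_const]
    refine IsSquare.pow _ ?_
    rw [show 2 * P (b 0) * (2 * P (b 1)) = (2 * 2) * (P (b 0) * P (b 1)) by ring]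
    exact (IsSquare.mul_self 2).mul hbsq
  have hU : finrank F U = 2 := by rw [finrank_eq_card_basis b, Fintype.card_fin]
  obtain ⟨iso⟩ := exists_isometry h2 Q (mQ (m := m) P c) bQ bm
    (by simp [hdim]; ring) hQ (mQ_nondeg P c hP h2 hc)
    (by
      show IsSquare (gdet Q bQ * gdet ((QuadraticMap.pi fun _ : Fin m => P).prod (QuadraticMap.pi fun j => qOne (c j))) bm)
      rw [gdet_prod, h1, h1', mul_left_comm]
      exact hsq.mul hdisc)
  let eo := orthCongr iso
  refine model_main hP h2 hU b hb hbsq hm hc ?_ ((e.trans (eo.subgroupMap _)).trans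
    (MulEquiv.subgroupCongr (map_commutator_equiv eo))) S x
  rw [← Nat.card_congr eo.toEquiv, hcard, hPcard]

theorem sylow_square {F : Type*} [Field F] [Fintype F] {q : ℕ} (hF : Fintype.card F = q)
    (hq : q % 2 = 1) {V : Type*} [AddCommGroup V] [Module F V] {ι : Type*} [Fintype ι]
    [DecidableEq ι] (Q : QuadraticForm F V) (hQ : Nondeg Q) (bQ : Basis ι F V) (m l : ℕ)
    (c : Fin l → F) (hc : ∀ j, c j ≠ 0) (hm : 2 ≤ m) (hdim : Fintype.card ι = 2 * m + l)
    (hdisc : IsSquare (gdet Q bQ * ∏ j, (2 * c j)))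
    (hcard : (Nat.card (orth Q)).factorization 2 = m * tq q + m.factorial.factorization 2 + l)
    {G : Type*} [Group G] [Finite G] (e : G ≃* commutator (orth Q)) (S : Sylow 2 G)
    (x : (S : Subgroup G)) : x ^ 2 ∈ commutator (S : Subgroup G) := by
  classical
  have hodd : Odd q := Nat.odd_iff.2 hq
  have hch := ringChar_ne_two hF hodd
  have h2 : (2 : F) ≠ 0 := Ring.two_ne_zero hch
  have h1 : 1 < q := hF ▸ Fintype.one_lt_card
  have hneg : IsSquare (-1 : F) ↔ q % 4 ≠ 3 := by rw [FiniteField.isSquare_neg_one_iff, hF]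
  by_cases h4 : q % 4 = 3
  · have hab : ∀ z₁ z₂ : F, z₁ ^ 2 + 0 * z₁ * z₂ + 1 * z₂ ^ 2 = 0 → z₁ = 0 ∧ z₂ = 0 := by
      intro z₁ z₂ h
      have hz : z₂ = 0 := by
        by_contra hz
        exact (hneg.1 ⟨z₁ / z₂, by field_simp; linear_combination -h⟩) h4
      exact ⟨by subst hz; simpa using h, hz⟩
    refine sylow_square_aux h2 (qBin 0 1) (qBin_nondeg hab) (Pi.basisFun F (Fin 2)) ?_ ?_ ?_
      Q hQ bQ m l c hc hm hdim hdisc hcard e S x
    · simp [polar, qBin_apply]
    · simp [qBin_apply]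
    · rw [card_orth_qBin hab, Nat.card_eq_fintype_card, hF, v2_mul (by norm_num) (by omega), v2_two,
        tq, v2_mul (by omega) (by omega), v2_of_mod_four (n := q - 1) (by omega)]
  · let b : Basis (Fin 2) F (Fin 1 ⊕ Fin 1 → F) := basisOfLinearIndependentOfCardEqFinrank
      (b := ![Sum.elim (1 : Fin 1 → F) (1 : Fin 1 → F), Sum.elim (1 : Fin 1 → F) (-1 : Fin 1 → F)]) (by
        refine LinearIndependent.pair_iff.2 fun s t hst => ?_
        have e1 := congrFun hst (.inl 0)
        have e2 := congrFun hst (.inr 0)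
        simp at e1 e2
        have hs : s = 0 := (mul_eq_zero.1 (by linear_combination e1 + e2 : (2 : F) * s = 0)).resolve_left h2
        exact ⟨hs, by rw [hs] at e1; simpa using e1⟩) (by simp)
    have hb0 : b 0 = Sum.elim (1 : Fin 1 → F) (1 : Fin 1 → F) := by simp [b]
    have hb1 : b 1 = Sum.elim (1 : Fin 1 → F) (-1 : Fin 1 → F) := by simp [b]
    refine sylow_square_aux h2 (qPlus 1) (qPlus_nondeg 1) b ?_ ?_ ?_
      Q hQ bQ m l c hc hm hdim hdisc hcard e S x
    · rw [hb0, hb1, qPlus_polar]; simp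
    · rw [hb0, hb1, qPlus_apply, qPlus_apply]
      simpa using hneg.2 h4
    · rw [← OrthStd.card_isometry (OrthStd.quadFormPlus_eq 1), OrthStd.card_orth_plus hF 1 le_rfl]
      simp only [mul_zero, pow_zero, mul_one, pow_one, Finset.range_zero, Finset.prod_empty,
        Nat.sub_self]
      rw [v2_mul (by norm_num) (by omega), v2_two, tq, v2_mul (by omega) (by omega),
        v2_of_mod_four (n := q + 1) (by omega), add_comm]

end Decomposition

/-- The commutator subgroup along an identification of an isometry group. -/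
noncomputable def omegaEquiv {ι : Type} [Fintype ι] [DecidableEq ι] {f : (ι → F) → F}
    {H : Type*} [Group H] (e : Cfsg.isometryGroup F f ≃* H) : Cfsg.Omega F f ≃* commutator H :=
  (e.subgroupMap (Cfsg.Omega F f)).trans (MulEquiv.subgroupCongr (map_commutator_equiv e))

end Cfsg.Agent.Lib.SylowOrth52
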