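/-
Wreath products with squares in the derived subgroup, as groups of block monomial matrices, and
2-parts of the orders of linear groups.
-/
import Cfsg.Agent.Lib.SylowOrth52.Forms
import Cfsg.Agent.Lib.Linear.Order
import Cfsg.Agent.Lib.Linear.SL2Sylow2
import Cfsg.Agent.Lib.SymSylow.Generated

set_option autoImplicit false
set_option linter.unusedSectionVars false

namespace Cfsg.Agent.Lib.SylowOrth52

open scoped Matrix commutatorElement

/-! ### Squares in the derived subgroup -/

/-- The elements whose square lies in the derived subgroup. -/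
def sqSub (G : Type*) [Group G] : Subgroup G where
  carrier := {g | Abelianization.of g ^ 2 = 1}
  one_mem' := by simp
  mul_mem' {a b} ha hb := by
    show Abelianization.of (a * b) ^ 2 = 1
    rw [map_mul, mul_pow, ha, hb, mul_one]
  inv_mem' {a} ha := by
    show Abelianization.of a⁻¹ ^ 2 = 1
    rw [map_inv, inv_pow, ha, inv_one]

theorem mem_sqSub {G : Type*} [Group G] {g : G} : g ∈ sqSub G ↔ g ^ 2 ∈ commutator G := by
  show Abelianization.of g ^ 2 = 1 ↔ _
  rw [← map_pow, ← MonoidHom.mem_ker, Abelianization.ker_of]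

theorem mem_sqSub_of_mul_self {G : Type*} [Group G] {g : G} (h : g * g = 1) : g ∈ sqSub G :=
  mem_sqSub.2 (by rw [pow_two, h]; exact one_mem _)

theorem map_mem_sqSub {G H : Type*} [Group G] [Group H] (f : G →* H) {g : G}
    (h : g ^ 2 ∈ commutator G) : f g ∈ sqSub H := by
  refine mem_sqSub.2 ?_
  rw [← map_pow]
  have h' := Subgroup.mem_map_of_mem f h
  rw [commutator_def, Subgroup.map_commutator] at h'
  rw [commutator_def]
  exact Subgroup.commutator_mono le_top le_top h'

theorem sylow_sq_of_hom {X G : Type*} [Group X] [Group G] [Finite G] (φ : X →* G)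
    (hφ : Function.Injective φ) (hcard : Nat.card X = 2 ^ (Nat.card G).factorization 2)
    (hX : ∀ x : X, x ∈ sqSub X) (S : Sylow 2 G) (x : (S : Subgroup G)) :
    x ^ 2 ∈ commutator (S : Subgroup G) := by
  haveI : Fact (Nat.Prime 2) := ⟨Nat.prime_two⟩
  let W : Sylow 2 G := Sylow.ofCard φ.range
    (by rw [← hcard, ← Nat.card_congr (MonoidHom.ofInjective hφ).toEquiv])
  let e : X ≃* (S : Subgroup G) := (MonoidHom.ofInjective hφ).trans (W.equiv S)
  obtain ⟨y, rfl⟩ := e.surjective x
  exact mem_sqSub.1 (map_mem_sqSub e.toMonoidHom (mem_sqSub.1 (hX y)))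

/-- Squares of a quaternion group. -/
theorem quaternion_sq {n : ℕ} (hn : Even n) (x : QuaternionGroup n) :
    x ∈ sqSub (QuaternionGroup n) := by
  have ha : ∀ j : ZMod (2 * n), QuaternionGroup.a (2 * j) ∈ commutator (QuaternionGroup n) := by
    intro j
    have h := Subgroup.commutator_mem_commutator (Subgroup.mem_top (QuaternionGroup.a j))
      (Subgroup.mem_top (QuaternionGroup.xa (0 : ZMod (2 * n))))
    rw [← commutator_def] at h
    have hx : (QuaternionGroup.xa (0 : ZMod (2 * n)))⁻¹ = QuaternionGroup.xa (n : ZMod (2 * n)) := by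
      refine inv_eq_of_mul_eq_one_right ?_
      rw [QuaternionGroup.xa_mul_xa, sub_zero, ← Nat.cast_add, ← two_mul, ZMod.natCast_self,
        QuaternionGroup.a_zero]
    have hj : (QuaternionGroup.a j)⁻¹ = QuaternionGroup.a (-j) := by
      refine inv_eq_of_mul_eq_one_right ?_
      rw [QuaternionGroup.a_mul_a, add_neg_cancel, QuaternionGroup.a_zero]
    have he : ⁅QuaternionGroup.a j, QuaternionGroup.xa (0 : ZMod (2 * n))⁆ = QuaternionGroup.a (2 * j) := by
      rw [commutatorElement_def, hj, hx, QuaternionGroup.a_mul_xa, QuaternionGroup.xa_mul_a,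
        QuaternionGroup.xa_mul_xa]
      congr 1
      have h2n : ((2 * n : ℕ) : ZMod (2 * n)) = 0 := ZMod.natCast_self _
      push_cast at h2n
      linear_combination h2n
    rwa [he] at h
  cases x with
  | a i =>
    refine mem_sqSub.2 ?_
    rw [pow_two, QuaternionGroup.a_mul_a, ← two_mul]
    exact ha i
  | xa i =>
    refine mem_sqSub.2 ?_
    obtain ⟨r, hr⟩ := hn
    rw [QuaternionGroup.xa_sq, show ((n : ℕ) : ZMod (2 * n)) = 2 * (r : ZMod (2 * n)) by
      subst hr; push_cast; ring]
    exact ha _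

theorem sl2_sylow_sq {F : Type*} [Field F] [Fintype F] (hF : Odd (Fintype.card F))
    (Q : Sylow 2 (Matrix.SpecialLinearGroup (Fin 2) F)) (x : (Q : Subgroup _)) :
    x ∈ sqSub (Q : Subgroup (Matrix.SpecialLinearGroup (Fin 2) F)) := by
  obtain ⟨k, hk, ⟨e⟩⟩ := Cfsg.Agent.Lib.Linear.sylow_two_SL2_quaternion hF Q
  obtain ⟨y, rfl⟩ := e.symm.surjective x
  exact map_mem_sqSub e.symm.toMonoidHom (mem_sqSub.1 (quaternion_sq (Nat.even_pow.2 ⟨even_two, by omega⟩) y))

/-! ### A Sylow 2-subgroup of a symmetric group generated by involutions -/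

theorem exists_goodSylow (n : ℕ) : ∃ T : Subgroup (Equiv.Perm (Fin n)),
    Nat.card T = 2 ^ (Nat.factorial n).factorization 2 ∧
      (T : Subgroup (Equiv.Perm (Fin n))) ≤ Subgroup.closure {x | x ∈ T ∧ x ^ 2 = 1} := by
  haveI : Fact (Nat.Prime 2) := ⟨Nat.prime_two⟩
  obtain ⟨T, h1, h2, -⟩ := SymSylow.Generated.exists_goodSub 2 n
  exact ⟨T, by rw [h1, Fintype.card_fin], h2⟩

/-- An induction along the generating involutions. -/
theorem induction_involutions {n : ℕ} {T : Subgroup (Equiv.Perm (Fin n))}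
    (hT : (T : Subgroup (Equiv.Perm (Fin n))) ≤ Subgroup.closure {x | x ∈ T ∧ x ^ 2 = 1})
    {p : T → Prop} (h1 : p 1) (hm : ∀ a b, p a → p b → p (a * b)) (hi : ∀ a, p a → p a⁻¹)
    (hs : ∀ s : T, s * s = 1 → p s) (t : T) : p t := by
  suffices ∀ x ∈ Subgroup.closure {x | x ∈ T ∧ x ^ 2 = 1}, ∃ hx : x ∈ T, p ⟨x, hx⟩ by
    obtain ⟨_, h⟩ := this t.1 (hT t.2)
    exact h
  intro x hx
  induction hx using Subgroup.closure_induction with
  | mem x hx => exact ⟨hx.1, hs _ (Subtype.ext (by rw [← pow_two] at *; exact hx.2))⟩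
  | one => exact ⟨one_mem T, h1⟩
  | mul a b _ _ ha hb => exact ⟨mul_mem ha.1 hb.1, hm _ _ ha.2 hb.2⟩
  | inv a _ ha => exact ⟨inv_mem ha.1, hi _ ha.2⟩

/-- A wreath product has squares in the derived subgroup if both factors have. -/
theorem wreath_sq {n : ℕ} {T : Subgroup (Equiv.Perm (Fin n))}
    (hT : (T : Subgroup (Equiv.Perm (Fin n))) ≤ Subgroup.closure {x | x ∈ T ∧ x ^ 2 = 1})
    {D : Type*} [Group D] (hD : ∀ d : D, d ∈ sqSub D)
    (w : (Fin n → D) ⋊[mulAutArrow] T) : w ∈ sqSub ((Fin n → D) ⋊[mulAutArrow] T) := by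
  rw [← SemidirectProduct.inl_left_mul_inr_right w]
  refine mul_mem ?_ ?_
  · show w.left ∈ (sqSub _).comap SemidirectProduct.inl
    exact Subgroup.pi_mem_of_mulSingle_mem _ fun i =>
      map_mem_sqSub (SemidirectProduct.inl.comp (MonoidHom.mulSingle (fun _ : Fin n => D) i))
        (mem_sqSub.1 (hD _))
  · refine induction_involutions hT (p := fun t => SemidirectProduct.inr t ∈ sqSub _) ?_ ?_ ?_ ?_ w.right
    · rw [map_one]; exact one_mem _
    · intro a b ha hb; rw [map_mul]; exact mul_mem ha hb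
    · intro a ha; rw [map_inv]; exact inv_mem ha
    · intro s hs; exact mem_sqSub_of_mul_self (by rw [← map_mul, hs, map_one])

/-! ### Block monomial matrices -/

section Blocks

variable {F : Type*} [Field F] {n : ℕ}

/-- The coordinates of the blocks. -/
def blkIdx (n : ℕ) : Fin n ⊕ Fin n ≃ Fin 2 × Fin n where
  toFun := Sum.elim (fun i => (0, i)) fun i => (1, i)
  invFun p := if p.1 = 0 then Sum.inl p.2 else Sum.inr p.2
  left_inv x := by rcases x with i | i <;> simp
  right_inv p := by obtain ⟨a, i⟩ := p; fin_cases a <;> simp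

/-- Block diagonal matrices. -/
def dblock (g : Fin n → Matrix (Fin 2) (Fin 2) F) : Matrix (Fin n ⊕ Fin n) (Fin n ⊕ Fin n) F :=
  (Matrix.blockDiagonal g).submatrix (blkIdx n) (blkIdx n)

theorem dblock_mul (g h : Fin n → Matrix (Fin 2) (Fin 2) F) :
    dblock g * dblock h = dblock (g * h) := by
  rw [dblock, dblock, Matrix.submatrix_mul_equiv, ← Matrix.blockDiagonal_mul]; rfl

theorem dblock_one : dblock (1 : Fin n → Matrix (Fin 2) (Fin 2) F) = 1 := by
  rw [dblock, Matrix.blockDiagonal_one, Matrix.submatrix_one_equiv]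

theorem dblock_transpose (g : Fin n → Matrix (Fin 2) (Fin 2) F) :
    (dblock g)ᵀ = dblock (fun i => (g i)ᵀ) := by
  rw [dblock, Matrix.transpose_submatrix, Matrix.blockDiagonal_transpose]; rfl

theorem dblock_det (g : Fin n → Matrix (Fin 2) (Fin 2) F) : (dblock g).det = ∏ i, (g i).det := by
  rw [dblock, Matrix.det_submatrix_equiv_self, Matrix.det_blockDiagonal]

theorem dblock_injective : Function.Injective (dblock (F := F) (n := n)) := fun g h e => by
  refine Matrix.blockDiagonal_injective ?_
  have := congrArg (fun M => M.submatrix (blkIdx n).symm (blkIdx n).symm) e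
  simpa [dblock, Matrix.submatrix_submatrix] using this

theorem dblock_apply (g : Fin n → Matrix (Fin 2) (Fin 2) F) (x y : Fin n ⊕ Fin n) :
    dblock g x y = if (blkIdx n x).2 = (blkIdx n y).2 then g (blkIdx n x).2 (blkIdx n x).1 (blkIdx n y).1 else 0 := rfl

variable (F) in
/-- Block permutation matrices. -/
def pblock : Equiv.Perm (Fin n) →* Matrix (Fin n ⊕ Fin n) (Fin n ⊕ Fin n) F :=
  (Matrix.permMatrixHom (n := Fin n ⊕ Fin n) (R := F)).comp
    { toFun := fun σ => Equiv.sumCongr σ σ
      map_one' := Equiv.sumCongr_refl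
      map_mul' := fun σ τ => (Equiv.Perm.sumCongr_mul σ σ τ τ).symm }

theorem pblock_eq (σ : Equiv.Perm (Fin n)) :
    pblock F σ = (Equiv.sumCongr σ.symm σ.symm).toPEquiv.toMatrix := rfl

theorem pblock_det (σ : Equiv.Perm (Fin n)) : (pblock F σ).det = 1 := by
  show (Equiv.Perm.permMatrix F (Equiv.Perm.sumCongr σ σ)⁻¹).det = 1
  rw [Matrix.det_permutation, Equiv.Perm.sign_inv, Equiv.Perm.sign_sumCongr, Int.units_mul_self]
  simp

theorem pblock_dblock (σ : Equiv.Perm (Fin n)) (g : Fin n → Matrix (Fin 2) (Fin 2) F) :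
    pblock F σ * dblock g = dblock (fun i => g (σ.symm i)) * pblock F σ := by
  rw [pblock_eq, PEquiv.toMatrix_toPEquiv_mul, PEquiv.mul_toMatrix_toPEquiv]
  ext x y
  rw [Matrix.submatrix_apply, Matrix.submatrix_apply, dblock_apply, dblock_apply]
  rcases x with i | i <;> rcases y with j | j <;> simp [blkIdx, Equiv.eq_symm_apply, Equiv.symm_apply_eq]

variable {D : Type*} [Group D] (f : D →* Matrix (Fin 2) (Fin 2) F) (T : Subgroup (Equiv.Perm (Fin n)))

/-- Block monomial matrices. -/
def blk : (Fin n → D) ⋊[mulAutArrow] T →* Matrix (Fin n ⊕ Fin n) (Fin n ⊕ Fin n) F where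
  toFun w := dblock (fun i => f (w.left i)) * pblock F w.right.1
  map_one' := by
    simp only [SemidirectProduct.one_left, SemidirectProduct.one_right, Pi.one_apply, map_one,
      OneMemClass.coe_one, mul_one]
    exact dblock_one
  map_mul' w w' := by
    simp only [SemidirectProduct.mul_left, SemidirectProduct.mul_right, Subgroup.coe_mul, map_mul]
    rw [show dblock (fun i => f (w.left i)) * pblock F w.right.1 *
        (dblock (fun i => f (w'.left i)) * pblock F w'.right.1) =
      dblock (fun i => f (w.left i)) * (pblock F w.right.1 * dblock (fun i => f (w'.left i))) *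
        pblock F w'.right.1 by simp only [mul_assoc],
      pblock_dblock, ← mul_assoc (dblock _) (dblock _), dblock_mul,
      mul_assoc (dblock _) (pblock F _) (pblock F _)]
    congr 2
    funext i
    show f ((w.left * (mulAutArrow w.right) w'.left) i) = _
    rw [Pi.mul_apply, map_mul]
    rfl

theorem blk_apply (w : (Fin n → D) ⋊[mulAutArrow] T) :
    blk f T w = dblock (fun i => f (w.left i)) * pblock F w.right.1 := rfl

theorem blk_det (w : (Fin n → D) ⋊[mulAutArrow] T) :
    (blk f T w).det = ∏ i, (f (w.left i)).det := by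
  rw [blk_apply, Matrix.det_mul, pblock_det, mul_one, dblock_det]

theorem blk_injective (hf : Function.Injective f) : Function.Injective (blk f T) := by
  refine (injective_iff_map_eq_one _).2 fun w hw => ?_
  rw [blk_apply, pblock_eq, PEquiv.mul_toMatrix_toPEquiv] at hw
  have hr : ∀ i, w.right.1 i = i := by
    intro i
    by_contra hne
    have h0 : ∀ a b : Fin 2, f (w.left (w.right.1 i)) a b = 0 := by
      intro a b
      have h := congrFun (congrFun hw ((blkIdx n).symm (a, w.right.1 i))) ((blkIdx n).symm (b, i))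
      rw [Matrix.submatrix_apply, dblock_apply] at h
      fin_cases a <;> fin_cases b <;> simpa [blkIdx, hne] using h
    have hd : (f (w.left (w.right.1 i))).det = 0 := by simp [Matrix.det_fin_two, h0]
    exact not_isUnit_zero (hd ▸ (Matrix.isUnit_iff_isUnit_det _).1 ((Group.isUnit _).map f))
  have hT : w.right = 1 := Subtype.ext (Equiv.ext hr)
  rw [hT, show Equiv.sumCongr (Equiv.symm ((1 : T) : Equiv.Perm (Fin n))) (Equiv.symm ((1 : T) : Equiv.Perm (Fin n))) = Equiv.refl _ by
    ext x; rcases x with i | i <;> rfl] at hw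
  have h1 : dblock (fun i => f (w.left i)) = dblock (1 : Fin n → Matrix (Fin 2) (Fin 2) F) := by
    rw [dblock_one]; simpa using hw
  refine SemidirectProduct.ext (funext fun i => hf ?_) hT
  rw [congrFun (dblock_injective h1) i]
  exact (map_one f).symm

end Blocks

/-! ### Two-parts -/

theorem v2_pow_sub_one_odd {q j : ℕ} (h4 : q % 4 = 3) (hj : j % 2 = 1) :
    (q ^ j - 1).factorization 2 = 1 := by
  refine v2_of_mod_four ?_
  have h : q ^ j % 4 = 3 := by
    rw [show j = 2 * (j / 2) + 1 by omega, pow_succ, pow_mul, Nat.mul_mod, Nat.pow_mod, Nat.pow_mod q 2 4, h4]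
    simp
  omega

theorem v2_pow_sub_one_one {q j : ℕ} (h1 : 1 < q) (h4 : q % 4 = 1) (hj : j ≠ 0) :
    (q ^ j - 1).factorization 2 + 1 = tq q + j.factorization 2 := by
  rw [← v2_pow_sub_add h1 (by omega) hj, v2_of_mod_four (n := q ^ j + 1) (by
    have h : q ^ j % 4 = 1 := by rw [Nat.pow_mod, h4, one_pow, Nat.one_mod]
    omega)]

theorem v2_card_GL {F : Type*} [Field F] [Fintype F] (hq : Fintype.card F % 2 = 1) (n : ℕ) :
    (∏ i : Fin n, (Fintype.card F ^ n - Fintype.card F ^ (i : ℕ))).factorization 2 =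
      ∑ i ∈ Finset.range n, (Fintype.card F ^ (i + 1) - 1).factorization 2 := by
  have h1 : 1 < Fintype.card F := Fintype.one_lt_card
  have hne : ∀ i : Fin n, Fintype.card F ^ n - Fintype.card F ^ (i : ℕ) ≠ 0 := fun i => by
    have := Nat.pow_lt_pow_right h1 i.2
    omega
  rw [Nat.factorization_prod fun i _ => hne i, Finsupp.finset_sum_apply, ← Finset.sum_range_reflect,
    Fin.sum_univ_eq_sum_range
      (fun i => (Fintype.card F ^ n - Fintype.card F ^ i).factorization 2) n]
  refine Finset.sum_congr rfl fun i hi => ?_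
  rw [Finset.mem_range] at hi
  have e : Fintype.card F ^ n = Fintype.card F ^ i * Fintype.card F ^ (n - 1 - i + 1) := by
    rw [← pow_add]; congr 1; omega
  have hne' : Fintype.card F ≤ Fintype.card F ^ (n - 1 - i + 1) := Nat.le_self_pow (by omega) _
  rw [e, ← Nat.mul_sub_one, v2_mul (pow_ne_zero _ (by omega)) (by omega), v2_pow_odd hq, zero_add]

theorem v2_card_SL {F : Type*} [Field F] [Fintype F] (hq : Fintype.card F % 2 = 1) (n : ℕ)
    (hn : 1 ≤ n) :
    (Fintype.card F - 1).factorization 2 +
      (Nat.card (Matrix.SpecialLinearGroup (Fin n) F)).factorization 2 =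
      ∑ i ∈ Finset.range n, (Fintype.card F ^ (i + 1) - 1).factorization 2 := by
  have h1 : 1 < Fintype.card F := Fintype.one_lt_card
  rw [← v2_card_GL hq n, ← Cfsg.Agent.Lib.Linear.sub_one_mul_card_SL n hn,
    v2_mul (by omega) Nat.card_pos.ne']

theorem v2_card_SL_two {F : Type*} [Field F] [Fintype F] (hq : Fintype.card F % 2 = 1) :
    (Nat.card (Matrix.SpecialLinearGroup (Fin 2) F)).factorization 2 = tq (Fintype.card F) := by
  have h1 : 1 < Fintype.card F := Fintype.one_lt_card
  rw [Cfsg.Agent.Lib.Linear.card_SL_two, mul_assoc,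
    v2_mul (by omega) (Nat.mul_ne_zero (by omega) (by omega)),
    Nat.factorization_eq_zero_of_not_dvd (by omega), zero_add, tq]

theorem sum_three {q : ℕ} (h4 : q % 4 = 3) (m : ℕ) :
    ∑ i ∈ Finset.range (2 * m), (q ^ (i + 1) - 1).factorization 2 =
      m * (tq q + 1) + m.factorial.factorization 2 := by
  induction m with
  | zero => simp
  | succ k ih =>
    rw [show 2 * (k + 1) = 2 * k + 1 + 1 by ring, Finset.sum_range_succ, Finset.sum_range_succ, ih,
      v2_pow_sub_one_odd h4 (by omega), show 2 * k + 1 + 1 = 2 * (k + 1) by ring,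
      v2_pow_sub (by omega) (by omega) (by omega), Nat.factorial_succ,
      v2_mul (by omega) k.factorial_ne_zero, Nat.succ_mul]
    omega

theorem sum_one {q : ℕ} (h1 : 1 < q) (h4 : q % 4 = 1) (n : ℕ) :
    (∑ i ∈ Finset.range n, (q ^ (i + 1) - 1).factorization 2) + n =
      n * tq q + n.factorial.factorization 2 := by
  induction n with
  | zero => simp
  | succ k ih =>
    have := v2_pow_sub_one_one (j := k + 1) h1 h4 (by omega)
    rw [Finset.sum_range_succ, Nat.factorial_succ, v2_mul (by omega) k.factorial_ne_zero, Nat.succ_mul]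
    omega

end Cfsg.Agent.Lib.SylowOrth52
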