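/-
Sylow 2-subgroups of symplectic and special linear groups in odd characteristic.
-/
import Cfsg.Agent.Lib.SylowOrth52.Wreath
import Cfsg.Agent.Lib.Symplectic.Std

set_option autoImplicit false
set_option linter.unusedSectionVars false

namespace Cfsg.Agent.Lib.SylowOrth52

open scoped Matrix commutatorElement

variable {F : Type*} [Field F] [Fintype F]

/-! ### Symplectic groups -/

/-- The alternating form of one plane. -/
def jPl (F : Type*) [Field F] : Matrix (Fin 2) (Fin 2) F := !![0, -1; 1, 0]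

theorem J_eq_dblock (n : ℕ) : Matrix.J (Fin n) F = dblock (fun _ => jPl F) := by
  ext x y
  rcases x with i | i <;> rcases y with j | j <;>
    simp [dblock_apply, blkIdx, jPl, Matrix.J, Matrix.one_apply, apply_ite]

theorem sl2_jPl (g : Matrix (Fin 2) (Fin 2) F) (hg : g.det = 1) : g * jPl F * gᵀ = jPl F := by
  rw [Matrix.det_fin_two] at hg
  ext i j
  fin_cases i <;> fin_cases j <;>
    simp [jPl, Matrix.mul_apply, Fin.sum_univ_two] <;>
    first | ring1 | linear_combination hg | linear_combination (-1 : F) * hg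

theorem sp_sylow_sq (hF : Odd (Fintype.card F)) (n : ℕ)
    (P : Sylow 2 (Matrix.symplecticGroup (Fin n) F))
    (x : (P : Subgroup (Matrix.symplecticGroup (Fin n) F))) :
    x ^ 2 ∈ commutator (P : Subgroup (Matrix.symplecticGroup (Fin n) F)) := by
  classical
  haveI : Fact (Nat.Prime 2) := ⟨Nat.prime_two⟩
  have hq := Nat.odd_iff.1 hF
  have h1 : 1 < Fintype.card F := Fintype.one_lt_card
  let Q : Sylow 2 (Matrix.SpecialLinearGroup (Fin 2) F) := default
  obtain ⟨T, hTc, hTg⟩ := exists_goodSylow n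
  let f : (Q : Subgroup (Matrix.SpecialLinearGroup (Fin 2) F)) →* Matrix (Fin 2) (Fin 2) F :=
    { toFun := fun g => g.1.1
      map_one' := rfl
      map_mul' := fun _ _ => rfl }
  have hmem : ∀ w, blk f T w ∈ Matrix.symplecticGroup (Fin n) F := by
    intro w
    rw [SymplecticGroup.mem_iff, blk_apply, Matrix.transpose_mul, J_eq_dblock]
    have hP : pblock F w.right.1 * dblock (fun _ => jPl F) * (pblock F w.right.1)ᵀ =
        dblock (fun _ => jPl F) := by
      rw [pblock_dblock, mul_assoc]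
      have ht : (pblock F w.right.1)ᵀ = pblock F (w.right.1)⁻¹ := by
        show (Equiv.Perm.permMatrix F (Equiv.Perm.sumCongr w.right.1 w.right.1)⁻¹)ᵀ = _
        rw [Matrix.transpose_permMatrix, inv_inv]
        show _ = Equiv.Perm.permMatrix F (Equiv.Perm.sumCongr w.right.1⁻¹ w.right.1⁻¹)⁻¹
        rw [Equiv.Perm.sumCongr_inv, inv_inv]
      rw [ht, ← map_mul, mul_inv_cancel, map_one, mul_one]
    rw [show dblock (fun i => f (w.left i)) * pblock F w.right.1 * dblock (fun _ => jPl F) *
        ((pblock F w.right.1)ᵀ * (dblock fun i => f (w.left i))ᵀ) =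
      dblock (fun i => f (w.left i)) * (pblock F w.right.1 * dblock (fun _ => jPl F) *
        (pblock F w.right.1)ᵀ) * (dblock fun i => f (w.left i))ᵀ by simp only [mul_assoc],
      hP, dblock_transpose, dblock_mul, dblock_mul]
    congr 1
    funext i
    exact sl2_jPl _ (w.left i).1.2
  let φ : (Fin n → (Q : Subgroup (Matrix.SpecialLinearGroup (Fin 2) F))) ⋊[mulAutArrow] T →*
      Matrix.symplecticGroup (Fin n) F :=
    { toFun := fun w => ⟨blk f T w, hmem w⟩
      map_one' := Subtype.ext (map_one (blk f T))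
      map_mul' := fun a b => Subtype.ext (map_mul (blk f T) a b) }
  refine sylow_sq_of_hom φ (fun a b h => blk_injective f T
      (fun g g' e => Subtype.ext (Subtype.ext e)) (congrArg Subtype.val h)) ?_
    (wreath_sq hTg (sl2_sylow_sq hF Q)) P x
  rw [SemidirectProduct.card, Nat.card_fun, Nat.card_fin, Q.card_eq_multiplicity, hTc, ← pow_mul,
    ← pow_add, Cfsg.Agent.Lib.Symplectic.card_sp Nat.card_eq_fintype_card n,
    v2_mul (pow_ne_zero _ (by omega)) (prod_pow_ne_zero h1 n), v2_pow_odd hq, zero_add, v2_prod h1 hq,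
    v2_card_SL_two hq, mul_comm (tq _)]

/-! ### `GL₂`, `q ≡ 3 (mod 4)` -/

theorem units_two_power (h4 : Fintype.card F % 4 = 3) {k : ℕ} (u : Fˣ) (hu : u ^ (2 ^ k) = 1) :
    u = 1 ∨ u = -1 := by
  classical
  have h1 : orderOf u ∣ 2 ^ k := orderOf_dvd_of_pow_eq_one hu
  have h2 : orderOf u ∣ Fintype.card F - 1 := by
    rw [← Fintype.card_units]; exact orderOf_dvd_card
  have h : orderOf u ∣ 2 := by
    obtain ⟨j, hj, he⟩ := (Nat.dvd_prime_pow Nat.prime_two).1 h1
    rw [he] at h2 ⊢
    rcases Nat.lt_or_ge j 2 with h | h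
    · exact (Nat.pow_dvd_pow 2 (by omega : j ≤ 1)).trans (by norm_num)
    · have := (Nat.pow_dvd_pow 2 h).trans h2
      omega
  have hsq := orderOf_dvd_iff_pow_eq_one.1 h
  have hv : (u : F) * u = 1 := by rw [← pow_two, ← Units.val_pow_eq_pow_val, hsq, Units.val_one]
  rcases mul_self_eq_one_iff.1 hv with e | e
  · exact Or.inl (Units.ext e)
  · exact Or.inr (Units.ext (by rw [e]; simp))

/-- A Sylow 2-subgroup of `GL₂` with an involution of determinant `-1`. -/
theorem exists_sylow_GL2 (hF : Odd (Fintype.card F)) (h4 : Fintype.card F % 4 = 3) :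
    ∃ D : Sylow 2 (GL (Fin 2) F), ∃ Q : Sylow 2 (Matrix.SpecialLinearGroup (Fin 2) F),
      ∃ d ∈ (D : Subgroup (GL (Fin 2) F)), d * d = 1 ∧ Matrix.GeneralLinearGroup.det d = -1 ∧
        (∀ g ∈ (D : Subgroup (GL (Fin 2) F)),
          Matrix.GeneralLinearGroup.det g = 1 ∨ Matrix.GeneralLinearGroup.det g = -1) ∧
        (∀ g, g ∈ (Q : Subgroup _) ↔ Matrix.SpecialLinearGroup.toGL g ∈ (D : Subgroup (GL (Fin 2) F))) ∧
        Nat.card (D : Subgroup (GL (Fin 2) F)) = 2 ^ (tq (Fintype.card F) + 1) := by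
  classical
  haveI : Fact (Nat.Prime 2) := ⟨Nat.prime_two⟩
  have hq := Nat.odd_iff.1 hF
  have h1 : 1 < Fintype.card F := Fintype.one_lt_card
  have h2 : (2 : F) ≠ 0 := Ring.two_ne_zero (Orth52.ringChar_ne_two rfl hF)
  let d : GL (Fin 2) F := Matrix.GeneralLinearGroup.mkOfDetNeZero !![1, 0; 0, -1]
    (by simp [Matrix.det_fin_two])
  have hd2 : d * d = 1 := by
    apply Units.ext
    show !![(1 : F), 0; 0, -1] * !![(1 : F), 0; 0, -1] = 1
    ext i j; fin_cases i <;> fin_cases j <;> simp [Matrix.mul_apply, Fin.sum_univ_two]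
  have hdet : Matrix.GeneralLinearGroup.det d = -1 := by
    apply Units.ext
    show Matrix.det !![(1 : F), 0; 0, -1] = _
    simp [Matrix.det_fin_two]
  have hd1 : d ≠ 1 := fun h => by
    rw [h, map_one] at hdet
    exact h2 (by have := congrArg Units.val hdet; simp at this; linear_combination this)
  obtain ⟨D, hD⟩ := (IsPGroup.of_card (p := 2) (n := 1) (G := Subgroup.zpowers d) (by
    rw [Nat.card_zpowers, pow_one, orderOf_eq_prime (by rw [pow_two]; exact hd2) hd1])).exists_le_sylow
  have hdD : d ∈ (D : Subgroup (GL (Fin 2) F)) := hD (Subgroup.mem_zpowers d)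
  have hpm : ∀ g ∈ (D : Subgroup (GL (Fin 2) F)),
      Matrix.GeneralLinearGroup.det g = 1 ∨ Matrix.GeneralLinearGroup.det g = -1 := by
    intro g hg
    obtain ⟨k, hk⟩ := D.2 ⟨g, hg⟩
    exact units_two_power h4 (k := k) _ (by
      rw [← map_pow, show g ^ 2 ^ k = 1 from congrArg Subtype.val hk, map_one])
  have hcD : Nat.card (D : Subgroup (GL (Fin 2) F)) = 2 ^ (tq (Fintype.card F) + 1) := by
    rw [D.card_eq_multiplicity, Matrix.card_GL_field, v2_card_GL hq 2]
    have h := sum_three h4 1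
    rw [mul_one, one_mul, Nat.factorial_one] at h
    rw [h]; simp
  let Q₀ : Subgroup (Matrix.SpecialLinearGroup (Fin 2) F) :=
    (D : Subgroup (GL (Fin 2) F)).comap Matrix.SpecialLinearGroup.toGL
  let δ : (D : Subgroup (GL (Fin 2) F)) →* Fˣ := Matrix.GeneralLinearGroup.det.comp (Subgroup.subtype _)
  have hQc : Nat.card Q₀ = 2 ^ (Nat.card (Matrix.SpecialLinearGroup (Fin 2) F)).factorization 2 := by
    rw [v2_card_SL_two hq]
    have he : Nat.card Q₀ = Nat.card δ.ker := by
      refine Nat.card_congr (Equiv.ofBijective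
        (fun g => (⟨⟨Matrix.SpecialLinearGroup.toGL g.1, g.2⟩, Units.ext g.1.2⟩ : δ.ker)) ⟨?_, ?_⟩)
      · intro g g' h
        exact Subtype.ext (Matrix.SpecialLinearGroup.toGL_injective
          (congrArg (fun z : δ.ker => z.1.1) h))
      · rintro ⟨⟨g, hg⟩, hk⟩
        have hdet1 : (g : Matrix (Fin 2) (Fin 2) F).det = 1 := congrArg Units.val hk
        have he : Matrix.SpecialLinearGroup.toGL ⟨(g : Matrix (Fin 2) (Fin 2) F), hdet1⟩ = g := Units.ext rfl
        refine ⟨⟨⟨_, hdet1⟩, ?_⟩, Subtype.ext (Subtype.ext he)⟩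
        show Matrix.SpecialLinearGroup.toGL _ ∈ (D : Subgroup (GL (Fin 2) F))
        rw [he]; exact hg
    have hr : Nat.card δ.range = 2 := by
      rw [Nat.card_eq_two_iff]
      refine ⟨⟨1, one_mem _⟩, ⟨-1, ⟨⟨d, hdD⟩, hdet⟩⟩, fun h => ?_, Set.eq_univ_of_forall ?_⟩
      · exact h2 (by have := congrArg (fun u : δ.range => (u.1 : F)) h; simp at this; linear_combination this)
      · rintro ⟨_, ⟨g, hg⟩, rfl⟩
        rcases hpm g hg with e | e
        · exact Or.inl (Subtype.ext e)
        · exact Or.inr (Subtype.ext e)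
    have h := δ.ker.card_mul_index
    rw [Subgroup.index_ker, hr, ← he, hcD, pow_succ] at h
    omega
  exact ⟨D, Sylow.ofCard Q₀ hQc, d, hdD, hd2, hdet, hpm, fun g => Iff.rfl, hcD⟩

/-- Elements of a Sylow 2-subgroup of `GL₂`. -/
theorem gl2_split (hF : Odd (Fintype.card F)) {D : Sylow 2 (GL (Fin 2) F)}
    {Q : Sylow 2 (Matrix.SpecialLinearGroup (Fin 2) F)}
    (hQ : ∀ g, g ∈ (Q : Subgroup _) ↔ Matrix.SpecialLinearGroup.toGL g ∈ (D : Subgroup (GL (Fin 2) F)))
    {g : (D : Subgroup (GL (Fin 2) F))} (hg : Matrix.GeneralLinearGroup.det g.1 = 1) :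
    g ∈ sqSub (D : Subgroup (GL (Fin 2) F)) ∧ ∃ (q : (Q : Subgroup (Matrix.SpecialLinearGroup (Fin 2) F)))
      (ι : (Q : Subgroup (Matrix.SpecialLinearGroup (Fin 2) F)) →* (D : Subgroup (GL (Fin 2) F))),
      ι q = g ∧ (∀ z, (ι z).1 = Matrix.SpecialLinearGroup.toGL z.1) ∧ q ^ 2 ∈ commutator (Q : Subgroup (Matrix.SpecialLinearGroup (Fin 2) F)) := by
  let ι₀ : (Q : Subgroup (Matrix.SpecialLinearGroup (Fin 2) F)) →* (D : Subgroup (GL (Fin 2) F)) :=
    { toFun := fun z => ⟨Matrix.SpecialLinearGroup.toGL z.1, (hQ _).1 z.2⟩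
      map_one' := Subtype.ext (map_one _)
      map_mul' := fun a b => Subtype.ext (map_mul _ _ _) }
  have hdet1 : (g.1 : Matrix (Fin 2) (Fin 2) F).det = 1 := congrArg Units.val hg
  have he : Matrix.SpecialLinearGroup.toGL ⟨(g.1 : Matrix (Fin 2) (Fin 2) F), hdet1⟩ = g.1 := Units.ext rfl
  let q : (Q : Subgroup (Matrix.SpecialLinearGroup (Fin 2) F)) :=
    ⟨⟨(g.1 : Matrix (Fin 2) (Fin 2) F), hdet1⟩, (hQ _).2 (by rw [he]; exact g.2)⟩
  have hι : ι₀ q = g := Subtype.ext he
  have hq := mem_sqSub.1 (sl2_sylow_sq hF Q q)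
  exact ⟨hι ▸ map_mem_sqSub ι₀ hq, q, ι₀, hι, fun _ => rfl, hq⟩

/-- The matrices of a subgroup of `GL₂`. -/
def glVal {k : ℕ} (D : Subgroup (GL (Fin k) F)) : D →* Matrix (Fin k) (Fin k) F :=
  (Units.coeHom _).comp D.subtype

theorem glVal_det {k : ℕ} (D : Subgroup (GL (Fin k) F)) (g : D) :
    (glVal D g).det = (Matrix.GeneralLinearGroup.det g.1 : Fˣ) := rfl

theorem glVal_injective {k : ℕ} (D : Subgroup (GL (Fin k) F)) : Function.Injective (glVal D) :=
  fun g g' e => Subtype.ext (Units.ext e)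

theorem prod_det_units {n : ℕ} (D : Subgroup (GL (Fin 2) F)) (T : Subgroup (Equiv.Perm (Fin n)))
    (w : (Fin n → D) ⋊[mulAutArrow] T) :
    (blk (glVal D) T w).det = ((∏ i, Matrix.GeneralLinearGroup.det (w.left i).1 : Fˣ) : F) := by
  rw [blk_det, Units.coe_prod]
  rfl

theorem sl_even_sylow_sq (hF : Odd (Fintype.card F)) (h4 : Fintype.card F % 4 = 3) (m : ℕ)
    (hm : 1 ≤ m) (P : Sylow 2 (Matrix.SpecialLinearGroup (Fin (2 * m)) F)) (x : (P : Subgroup _)) :
    x ^ 2 ∈ commutator (P : Subgroup (Matrix.SpecialLinearGroup (Fin (2 * m)) F)) := by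
  classical
  haveI : Fact (Nat.Prime 2) := ⟨Nat.prime_two⟩
  have hq := Nat.odd_iff.1 hF
  have h1 : 1 < Fintype.card F := Fintype.one_lt_card
  have h2 : (2 : F) ≠ 0 := Ring.two_ne_zero (Orth52.ringChar_ne_two rfl hF)
  obtain ⟨D, Q, d, hdD, hd2, hdet, hpm, hQ, hcD⟩ := exists_sylow_GL2 hF h4
  obtain ⟨T, hTc, hTg⟩ := exists_goodSylow m
  let X₀ := (Fin m → (D : Subgroup (GL (Fin 2) F))) ⋊[mulAutArrow] T
  let χ : X₀ →* Fˣ :=
    { toFun := fun w => ∏ i, Matrix.GeneralLinearGroup.det (w.left i).1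
      map_one' := Finset.prod_eq_one fun i _ => map_one _
      map_mul' := fun a b => by
        show (∏ i, Matrix.GeneralLinearGroup.det ((a.left * (mulAutArrow a.right) b.left) i).1) = _
        simp only [Pi.mul_apply, Subgroup.coe_mul, map_mul, Finset.prod_mul_distrib]
        congr 1
        exact Equiv.prod_comp (a.right.1).symm (fun i => Matrix.GeneralLinearGroup.det (b.left i).1) }
  let ix : Fin m ⊕ Fin m ≃ Fin (2 * m) := finSumFinEquiv.trans (finCongr (two_mul m).symm)
  let φ : χ.ker →* Matrix.SpecialLinearGroup (Fin (2 * m)) F :=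
    { toFun := fun w => ⟨(blk (glVal _) T w.1).submatrix ix.symm ix.symm, by
        rw [Matrix.det_submatrix_equiv_self, prod_det_units]
        exact congrArg Units.val w.2⟩
      map_one' := Subtype.ext (by
        show (blk (glVal _) T 1).submatrix ix.symm ix.symm = 1
        rw [map_one, Matrix.submatrix_one_equiv])
      map_mul' := fun a b => Subtype.ext (by
        show (blk (glVal _) T (a.1 * b.1)).submatrix ix.symm ix.symm =
          (blk (glVal _) T a.1).submatrix ix.symm ix.symm * (blk (glVal _) T b.1).submatrix ix.symm ix.symm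
        rw [map_mul, Matrix.submatrix_mul_equiv]) }
  let i0 : Fin m := ⟨0, hm⟩
  let dd : (D : Subgroup (GL (Fin 2) F)) := ⟨d, hdD⟩
  let e : Fin m → X₀ := fun i => SemidirectProduct.inl (Pi.mulSingle i dd)
  have hχe : ∀ i g, χ (SemidirectProduct.inl (Pi.mulSingle i g)) = Matrix.GeneralLinearGroup.det g.1 := by
    intro i g
    show ∏ j, Matrix.GeneralLinearGroup.det ((Pi.mulSingle i g : Fin m → (D : Subgroup (GL (Fin 2) F))) j).1 = _
    rw [Finset.prod_eq_single i (fun j _ hj => by rw [Pi.mulSingle_eq_of_ne hj]; exact map_one _)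
      (by simp), Pi.mulSingle_eq_same]
  have hrange : Nat.card χ.range = 2 := by
    rw [Nat.card_eq_two_iff]
    refine ⟨⟨1, one_mem _⟩, ⟨-1, ⟨e i0, (hχe i0 dd).trans hdet⟩⟩, fun h => ?_, Set.eq_univ_of_forall ?_⟩
    · exact h2 (by have := congrArg (fun u : χ.range => (u.1 : F)) h; simp at this; linear_combination this)
    · rintro ⟨_, w, rfl⟩
      have : χ w = 1 ∨ χ w = -1 := by
        show (∏ i, Matrix.GeneralLinearGroup.det (w.left i).1) = 1 ∨
          (∏ i, Matrix.GeneralLinearGroup.det (w.left i).1) = -1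
        refine Finset.prod_induction _ (fun u : Fˣ => u = 1 ∨ u = -1) ?_ (Or.inl rfl) fun i _ => hpm _ (w.left i).2
        rintro a b (rfl | rfl) (rfl | rfl) <;> simp
      rcases this with h | h
      · exact Or.inl (Subtype.ext h)
      · exact Or.inr (Subtype.ext h)
  have hcard : Nat.card χ.ker =
      2 ^ (Nat.card (Matrix.SpecialLinearGroup (Fin (2 * m)) F)).factorization 2 := by
    have h := χ.ker.card_mul_index
    rw [Subgroup.index_ker, hrange, SemidirectProduct.card, Nat.card_fun, Nat.card_fin, hcD, hTc,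
      ← pow_mul, ← pow_add] at h
    have hv := v2_card_SL (F := F) hq (2 * m) (by omega)
    rw [sum_three h4, v2_of_mod_four (n := Fintype.card F - 1) (by omega)] at hv
    rw [mul_comm (tq _ + 1), ← hv, add_comm 1, pow_succ] at h
    omega
  refine sylow_sq_of_hom φ (fun a b h => ?_) hcard ?_ P x
  · have h' := congrArg (fun M : Matrix.SpecialLinearGroup (Fin (2 * m)) F => M.1.submatrix ix ix) h
    change ((blk (glVal (D : Subgroup (GL (Fin 2) F))) T a.1).submatrix ix.symm ix.symm).submatrix ix ix =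
      ((blk (glVal (D : Subgroup (GL (Fin 2) F))) T b.1).submatrix ix.symm ix.symm).submatrix ix ix at h'
    rw [Matrix.submatrix_submatrix, Matrix.submatrix_submatrix, Equiv.symm_comp_self,
      Matrix.submatrix_id_id, Matrix.submatrix_id_id] at h'
    exact Subtype.ext (blk_injective _ T (glVal_injective _) h')
  -- squares
  intro w
  have hinvol : ∀ i, e i * e i = 1 := fun i => by
    rw [← map_mul, ← Pi.mulSingle_mul, show dd * dd = 1 from Subtype.ext hd2, Pi.mulSingle_one, map_one]
  have hcommE : ∀ i j, e i * e j = e j * e i := fun i j => by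
    rw [← map_mul, ← map_mul]
    congr 1
    funext k
    rcases eq_or_ne k i with rfl | hi
    · rcases eq_or_ne k j with rfl | hj
      · rfl
      · simp [Pi.mulSingle_eq_of_ne hj]
    · simp [Pi.mulSingle_eq_of_ne hi]
  have hTmem : ∀ t : T, SemidirectProduct.inr t ∈ χ.ker := fun t => by
    show ∏ i, Matrix.GeneralLinearGroup.det ((1 : Fin m → (D : Subgroup (GL (Fin 2) F))) i).1 = 1
    simp
  have hTsq : ∀ t : T, (⟨SemidirectProduct.inr t, hTmem t⟩ : χ.ker) ∈ sqSub χ.ker := by
    intro t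
    refine induction_involutions hTg (p := fun t => (⟨SemidirectProduct.inr t, hTmem t⟩ : χ.ker) ∈ sqSub χ.ker)
      ?_ ?_ ?_ ?_ t
    · convert one_mem (sqSub χ.ker)
      exact map_one _
    · intro a b ha hb
      convert mul_mem ha hb
      exact map_mul _ _ _
    · intro a ha
      convert inv_mem ha
      exact map_inv _ _
    · intro s hs
      exact mem_sqSub_of_mul_self (Subtype.ext (by
        show SemidirectProduct.inr s * SemidirectProduct.inr s = (1 : X₀)
        rw [← map_mul, hs, map_one]))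
  have hQsq : ∀ i (g : (D : Subgroup (GL (Fin 2) F))) (hg : Matrix.GeneralLinearGroup.det g.1 = 1),
      (⟨SemidirectProduct.inl (Pi.mulSingle i g), (hχe i g).trans hg⟩ : χ.ker) ∈ sqSub χ.ker := by
    intro i g hg
    obtain ⟨-, q, ι, hι, hιv, hq2⟩ := gl2_split hF hQ hg
    let ψ : (Q : Subgroup (Matrix.SpecialLinearGroup (Fin 2) F)) →* χ.ker :=
      { toFun := fun z => ⟨SemidirectProduct.inl (Pi.mulSingle i (ι z)), (hχe i _).trans (by
          rw [hιv]; exact Units.ext z.1.2)⟩
        map_one' := Subtype.ext (by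
          show SemidirectProduct.inl (Pi.mulSingle i (ι 1)) = (1 : X₀)
          rw [map_one, Pi.mulSingle_one, map_one])
        map_mul' := fun a b => Subtype.ext (by
          show SemidirectProduct.inl (Pi.mulSingle i (ι (a * b))) = (_ : X₀) * _
          rw [map_mul, Pi.mulSingle_mul, map_mul]) }
    convert map_mem_sqSub ψ hq2 using 1
    exact Subtype.ext (by show _ = SemidirectProduct.inl (Pi.mulSingle (M := fun _ : Fin m => ↥(D : Subgroup (GL (Fin 2) F))) i (ι q)); rw [hι])
  have hpair : ∀ i, (⟨e i * e i0, by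
      rw [MonoidHom.mem_ker, map_mul, hχe, hχe, hdet, neg_mul_neg, one_mul]⟩ : χ.ker) ∈ sqSub χ.ker :=
    fun i => mem_sqSub_of_mul_self (Subtype.ext (by
      show e i * e i0 * (e i * e i0) = 1
      rw [mul_assoc, ← mul_assoc (e i0), hcommE i0 i, mul_assoc (e i), hinvol, mul_one, hinvol]))
  -- the generation
  let M : Subgroup X₀ := (sqSub χ.ker).map χ.ker.subtype
  suffices hM : w.1 ∈ M by
    obtain ⟨v, hv, he⟩ := hM
    rwa [← Subtype.ext he]
  let a := w.1.left
  let b : Fin m → (D : Subgroup (GL (Fin 2) F)) := fun i =>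
    if Matrix.GeneralLinearGroup.det (a i).1 = 1 then a i else a i * dd
  have hb : ∀ i, Matrix.GeneralLinearGroup.det (b i).1 = 1 := by
    intro i
    simp only [b]
    split
    · assumption
    · next h =>
      rw [Subgroup.coe_mul, map_mul, (hpm _ (a i).2).resolve_left h, hdet, neg_mul_neg, one_mul]
  have hbM : ∀ i, SemidirectProduct.inl (Pi.mulSingle i (b i)) ∈ M :=
    fun i => ⟨_, hQsq i (b i) (hb i), rfl⟩
  -- modulo `M` every coordinate can be moved to the first one
  have hstep : ∀ i, SemidirectProduct.inl (Pi.mulSingle i (a i)) ∈ M ∨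
      SemidirectProduct.inl (Pi.mulSingle i (a i)) * e i0 ∈ M := by
    intro i
    by_cases h : Matrix.GeneralLinearGroup.det (a i).1 = 1
    · left
      have := hbM i
      simpa [b, h] using this
    · right
      have h' : b i = a i * dd := by simp [b, h]
      have hab : SemidirectProduct.inl (Pi.mulSingle i (a i)) * e i0 =
          SemidirectProduct.inl (Pi.mulSingle i (b i)) * (e i * e i0) := by
        rw [h', Pi.mulSingle_mul, map_mul]
        show _ = _ * e i * (e i * e i0)
        rw [mul_assoc _ (e i), ← mul_assoc (e i), hinvol, one_mul]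
      rw [hab]
      exact mul_mem (hbM i) ⟨_, hpair i, rfl⟩
  let Z : Subgroup (Fin m → (D : Subgroup (GL (Fin 2) F))) :=
    { carrier := {f | SemidirectProduct.inl f ∈ M ∨ SemidirectProduct.inl f * e i0 ∈ M}
      one_mem' := Or.inl (by rw [map_one]; exact one_mem M)
      mul_mem' := by
        intro f g hf hg
        have hM2 : e i0 ∈ Subgroup.normalizer (M : Set X₀) := by
          rw [Subgroup.mem_normalizer_iff]
          intro y
          have hn : (sqSub χ.ker).map χ.ker.subtype = M := rfl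
          constructor
          · rintro ⟨v, hv, rfl⟩
            have hc : e i0 * v.1 * (e i0)⁻¹ ∈ χ.ker := (MonoidHom.normal_ker χ).conj_mem _ v.2 _
            refine ⟨⟨_, hc⟩, ?_, rfl⟩
            exact map_mem_sqSub ((MulAut.conjNormal (e i0) : MulAut χ.ker) : χ.ker →* χ.ker) (mem_sqSub.1 hv)
          · rintro ⟨v, hv, he⟩
            have hc : (e i0)⁻¹ * v.1 * ((e i0)⁻¹)⁻¹ ∈ χ.ker := (MonoidHom.normal_ker χ).conj_mem _ v.2 _
            refine ⟨⟨_, hc⟩, ?_, ?_⟩
            · exact map_mem_sqSub ((MulAut.conjNormal (e i0)⁻¹ : MulAut χ.ker) : χ.ker →* χ.ker) (mem_sqSub.1 hv)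
            · show (e i0)⁻¹ * v.1 * ((e i0)⁻¹)⁻¹ = y
              rw [show v.1 = e i0 * y * (e i0)⁻¹ from he]
              simp [mul_assoc]
        have hinv : (e i0)⁻¹ = e i0 := @inv_eq_of_mul_eq_one_right _ _ (e i0) (e i0) (hinvol i0)
        have hcj : ∀ y ∈ M, e i0 * y * e i0 ∈ M := fun y hy => by
          have := (Subgroup.mem_normalizer_iff.1 hM2 y).1 hy
          rwa [hinv] at this
        rcases hf with hf | hf <;> rcases hg with hg | hg
        · exact Or.inl (by rw [map_mul]; exact mul_mem hf hg)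
        · exact Or.inr (by rw [map_mul, mul_assoc]; exact mul_mem hf hg)
        · refine Or.inr ?_
          have := mul_mem hf (hcj _ hg)
          rw [map_mul]
          rwa [show SemidirectProduct.inl f * e i0 * (e i0 * SemidirectProduct.inl g * e i0) =
            SemidirectProduct.inl f * (e i0 * e i0) * SemidirectProduct.inl g * e i0 by group,
            hinvol, mul_one] at this
        · refine Or.inl ?_
          have := mul_mem hf (hcj _ hg)
          rw [map_mul]
          rwa [show SemidirectProduct.inl f * e i0 * (e i0 * (SemidirectProduct.inl g * e i0) * e i0) =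
            SemidirectProduct.inl f * (e i0 * e i0) * SemidirectProduct.inl g * (e i0 * e i0) by group,
            hinvol, mul_one, mul_one] at this
      inv_mem' := by
        intro f hf
        have hinv : (e i0)⁻¹ = e i0 := @inv_eq_of_mul_eq_one_right _ _ (e i0) (e i0) (hinvol i0)
        rcases hf with hf | hf
        · exact Or.inl (by rw [map_inv]; exact inv_mem hf)
        · refine Or.inr ?_
          have hm' := inv_mem hf
          rw [mul_inv_rev, hinv] at hm'
          have hM2 : ∀ y ∈ M, e i0 * y * (e i0)⁻¹ ∈ M := by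
            rintro _ ⟨v, hv, rfl⟩
            exact ⟨⟨_, (MonoidHom.normal_ker χ).conj_mem _ v.2 _⟩,
              map_mem_sqSub ((MulAut.conjNormal (e i0) : MulAut χ.ker) : χ.ker →* χ.ker) (mem_sqSub.1 hv), rfl⟩
          have := hM2 _ hm'
          rw [hinv, ← mul_assoc, hinvol, one_mul] at this
          rwa [map_inv] }
  have hZ : a ∈ Z := Subgroup.pi_mem_of_mulSingle_mem _ fun i => hstep i
  rw [← SemidirectProduct.inl_left_mul_inr_right w.1]
  refine mul_mem ?_ ⟨_, hTsq w.1.right, rfl⟩
  rcases hZ with h | h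
  · exact h
  · obtain ⟨v, -, hv⟩ := h
    have h1' : χ (SemidirectProduct.inl a * e i0) = 1 := by rw [← hv]; exact v.2
    have h0 : χ (SemidirectProduct.inl a) = 1 := w.2
    rw [map_mul, h0, one_mul, hχe, hdet] at h1'
    exact absurd (congrArg Units.val h1') (fun h => h2 (by simp at h; linear_combination -h))

theorem sl_odd_sylow_sq (hF : Odd (Fintype.card F)) (h4 : Fintype.card F % 4 = 3) (m : ℕ)
    (P : Sylow 2 (Matrix.SpecialLinearGroup (Fin (2 * m + 1)) F)) (x : (P : Subgroup _)) :
    x ^ 2 ∈ commutator (P : Subgroup (Matrix.SpecialLinearGroup (Fin (2 * m + 1)) F)) := by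
  classical
  haveI : Fact (Nat.Prime 2) := ⟨Nat.prime_two⟩
  have hq := Nat.odd_iff.1 hF
  obtain ⟨D, Q, d, hdD, hd2, hdet, hpm, hQ, hcD⟩ := exists_sylow_GL2 hF h4
  obtain ⟨T, hTc, hTg⟩ := exists_goodSylow m
  let D₀ : Subgroup (GL (Fin 2) F) := (D : Subgroup (GL (Fin 2) F))
  let B := blk (glVal D₀) T
  have hne : ∀ w, (B w).det ≠ 0 := fun w h => by
    have := (Matrix.isUnit_iff_isUnit_det _).1 ((Group.isUnit w).map B)
    rw [h] at this
    exact not_isUnit_zero this
  let ix : (Fin m ⊕ Fin m) ⊕ Fin 1 ≃ Fin (2 * m + 1) :=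
    (Equiv.sumCongr finSumFinEquiv (Equiv.refl _)).trans (finSumFinEquiv.trans (finCongr (by omega)))
  let full : (Fin m → D₀) ⋊[mulAutArrow] T →* Matrix ((Fin m ⊕ Fin m) ⊕ Fin 1) ((Fin m ⊕ Fin m) ⊕ Fin 1) F :=
    { toFun := fun w => Matrix.fromBlocks (B w) 0 0 (Matrix.scalar (Fin 1) ((B w).det)⁻¹)
      map_one' := by
        show Matrix.fromBlocks (B 1) 0 0 (Matrix.scalar (Fin 1) ((B 1).det)⁻¹) = 1
        rw [map_one B, Matrix.det_one, inv_one, map_one, Matrix.fromBlocks_one]
      map_mul' := fun a b => by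
        show Matrix.fromBlocks (B (a * b)) 0 0 (Matrix.scalar (Fin 1) ((B (a * b)).det)⁻¹) =
          Matrix.fromBlocks (B a) 0 0 (Matrix.scalar (Fin 1) ((B a).det)⁻¹) *
            Matrix.fromBlocks (B b) 0 0 (Matrix.scalar (Fin 1) ((B b).det)⁻¹)
        rw [Matrix.fromBlocks_multiply, map_mul B, Matrix.det_mul, mul_inv, map_mul]
        simp }
  let φ : (Fin m → D₀) ⋊[mulAutArrow] T →* Matrix.SpecialLinearGroup (Fin (2 * m + 1)) F :=
    { toFun := fun w => ⟨(full w).submatrix ix.symm ix.symm, by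
        rw [Matrix.det_submatrix_equiv_self]
        show (Matrix.fromBlocks _ _ _ _).det = 1
        rw [Matrix.det_fromBlocks_zero₂₁, Matrix.det_fin_one, Matrix.scalar_apply,
          Matrix.diagonal_apply_eq, mul_inv_cancel₀ (hne w)]⟩
      map_one' := Subtype.ext (by
        show (full 1).submatrix ix.symm ix.symm = 1
        rw [map_one, Matrix.submatrix_one_equiv])
      map_mul' := fun a b => Subtype.ext (by
        show (full (a * b)).submatrix ix.symm ix.symm =
          (full a).submatrix ix.symm ix.symm * (full b).submatrix ix.symm ix.symm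
        rw [map_mul, Matrix.submatrix_mul_equiv]) }
  refine sylow_sq_of_hom φ (fun a b h => ?_) ?_ ?_ P x
  · have h' := congrArg (fun M : Matrix.SpecialLinearGroup (Fin (2 * m + 1)) F =>
      (M.1.submatrix ix ix).toBlocks₁₁) h
    change (((full a).submatrix ix.symm ix.symm).submatrix ix ix).toBlocks₁₁ =
      (((full b).submatrix ix.symm ix.symm).submatrix ix ix).toBlocks₁₁ at h'
    rw [Matrix.submatrix_submatrix, Matrix.submatrix_submatrix, Equiv.symm_comp_self,
      Matrix.submatrix_id_id, Matrix.submatrix_id_id] at h'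
    exact blk_injective _ T (glVal_injective _)
      (by simpa [full, Matrix.toBlocks_fromBlocks₁₁] using h')
  · have hv := v2_card_SL (F := F) hq (2 * m + 1) (by omega)
    rw [Finset.sum_range_succ, sum_three h4, v2_pow_sub_one_odd h4 (by omega),
      v2_of_mod_four (n := Fintype.card F - 1) (by omega)] at hv
    rw [SemidirectProduct.card, Nat.card_fun, Nat.card_fin, hcD, hTc, ← pow_mul, ← pow_add]
    congr 1
    rw [mul_comm (tq _ + 1)]
    omega
  · refine wreath_sq hTg fun g => ?_
    rcases hpm _ g.2 with h | h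
    · exact (gl2_split hF hQ h).1
    · have h' : Matrix.GeneralLinearGroup.det (g * ⟨d, hdD⟩ : D₀).1 = 1 := by
        rw [Subgroup.coe_mul, map_mul, h, hdet, neg_mul_neg, one_mul]
      have := mul_mem (gl2_split hF hQ h').1
        (mem_sqSub_of_mul_self (g := (⟨d, hdD⟩ : D₀)) (Subtype.ext hd2))
      rwa [mul_assoc, show (⟨d, hdD⟩ : D₀) * ⟨d, hdD⟩ = 1 from Subtype.ext hd2, mul_one] at this

end Cfsg.Agent.Lib.SylowOrth52
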