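/-
The Sylow 2-subgroups of the special orthogonal group in dimension four, plus type, odd
characteristic: squares lie in the derived subgroup and the only central involution is `-1`.
-/
import Cfsg.Agent.Lib.SylowOrth52.Forms

set_option autoImplicit false
set_option linter.unusedSectionVars false

namespace Cfsg.Agent.Lib.SylowOrth52

open Module QuadraticMap
open scoped commutatorElement
open Cfsg.Agent.Lib.Forms Cfsg.Agent.Lib.Orth52

/-! ### A subgroup of index two with an involution outside -/

theorem sylow_sq_of_index_two {G : Type*} [Group G] [Finite G] (N : Subgroup G) (hidx : N.index = 2)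
    (r : G) (hr : r ∉ N) (hr2 : r * r = 1)
    (hN : ∀ (T : Sylow 2 N) (x : (T : Subgroup N)), x ^ 2 ∈ commutator (T : Subgroup N))
    (S : Sylow 2 G) (x : (S : Subgroup G)) : x ^ 2 ∈ commutator (S : Subgroup G) := by
  haveI : Fact (Nat.Prime 2) := ⟨Nat.prime_two⟩
  haveI hNn : N.Normal := Subgroup.normal_of_index_eq_two hidx
  obtain ⟨S₀, hS₀⟩ := (IsPGroup.of_card (p := 2) (n := (Nat.card (Subgroup.zpowers r)).factorization 2)
    (G := Subgroup.zpowers r) (by
      have h1 : orderOf r = 2 := orderOf_eq_prime (by rw [pow_two, hr2]) (fun h => hr (h ▸ N.one_mem))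
      rw [Nat.card_zpowers, h1, Nat.prime_two.factorization_self, pow_one])).exists_le_sylow
  obtain ⟨g, hg⟩ := MulAction.exists_smul_eq G S₀ S
  set r' := g * r * g⁻¹ with hr'
  have hr'S : r' ∈ (S : Subgroup G) := by
    rw [← hg, Sylow.coe_subgroup_smul]
    exact Subgroup.mem_pointwise_smul_iff_inv_smul_mem.2 (by
      simpa [hr', MulAut.smul_def, mul_assoc] using hS₀ (Subgroup.mem_zpowers r))
  have hr'N : r' ∉ N := fun h => hr (by
    have := hNn.conj_mem _ h g⁻¹
    simpa [hr', mul_assoc] using this)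
  have hr'2 : r' * r' = 1 := by
    rw [hr', show g * r * g⁻¹ * (g * r * g⁻¹) = g * (r * r) * g⁻¹ by group, hr2]; group
  -- the part inside `N`
  obtain ⟨T, hT⟩ : ∃ T : Sylow 2 N, (T : Subgroup N) = (S : Subgroup G).subgroupOf N := by
    have hp : IsPGroup 2 ↥((S : Subgroup G).subgroupOf N) :=
      S.2.comap_of_injective N.subtype N.subtype_injective
    obtain ⟨T, hT⟩ := hp.exists_le_sylow
    refine ⟨T, le_antisymm ?_ hT⟩
    intro t ht
    have hTG : IsPGroup 2 ↥((T : Subgroup N).map N.subtype ⊔ (S : Subgroup G) ⊓ N) := by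
      rw [show (T : Subgroup N).map N.subtype ⊔ (S : Subgroup G) ⊓ N = (T : Subgroup N).map N.subtype from
        sup_eq_left.2 fun y hy => ⟨⟨y, hy.2⟩, hT hy.1, rfl⟩]
      exact T.2.map N.subtype
    -- compare cardinalities
    have hcardT : Nat.card (T : Subgroup N) = 2 ^ (Nat.card N).factorization 2 := T.card_eq_multiplicity
    have hcardS : Nat.card (S : Subgroup G) = 2 ^ (Nat.card N).factorization 2 * 2 := by
      rw [S.card_eq_multiplicity, ← N.card_mul_index, hidx,
        Nat.factorization_mul Nat.card_pos.ne' two_ne_zero, Finsupp.add_apply,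
        Nat.prime_two.factorization_self, pow_succ]
    have hle : (N.relIndex (S : Subgroup G)) ≤ 2 :=
      (Subgroup.relIndex_le_of_le_right le_top (by
        rw [Subgroup.relIndex_top_right, hidx]; exact two_ne_zero)).trans
        (N.relIndex_top_right.trans hidx).le
    have hmul : Nat.card ↥(N.subgroupOf (S : Subgroup G)) * N.relIndex (S : Subgroup G) =
        Nat.card (S : Subgroup G) := (N.subgroupOf _).card_mul_index
    have heq : Nat.card ↥((S : Subgroup G).subgroupOf N) = Nat.card ↥(N.subgroupOf (S : Subgroup G)) :=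
      Nat.card_congr
        { toFun := fun a => ⟨⟨a.1.1, a.2⟩, a.1.2⟩
          invFun := fun a => ⟨⟨a.1.1, a.2⟩, a.1.2⟩
          left_inv := fun a => rfl
          right_inv := fun a => rfl }
    have : (S : Subgroup G).subgroupOf N = (T : Subgroup N) := by
      refine Subgroup.eq_of_le_of_card_ge hT ?_
      rw [heq]
      have h2 := hmul.trans hcardS
      rw [← hcardT] at h2
      have := Nat.mul_le_mul_left (Nat.card ↥(N.subgroupOf (S : Subgroup G))) hle
      omega
    rw [this]; exact ht
  have key : ∀ y : (S : Subgroup G), (y : G) ∈ N → y ^ 2 ∈ commutator (S : Subgroup G) := by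
    intro y hy
    let ι₀ : (T : Subgroup N) →* (S : Subgroup G) :=
      { toFun := fun t => ⟨t.1.1, Subgroup.mem_subgroupOf.1 (hT ▸ t.2)⟩
        map_one' := rfl
        map_mul' := fun _ _ => rfl }
    have h := Subgroup.mem_map_of_mem ι₀ (hN T ⟨⟨y, hy⟩, hT ▸ Subgroup.mem_subgroupOf.2 y.2⟩)
    have h' : (commutator (T : Subgroup N)).map ι₀ ≤ commutator (S : Subgroup G) := by
      rw [commutator_def, Subgroup.map_commutator, commutator_def]
      exact Subgroup.commutator_mono le_top le_top
    exact h' h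
  by_cases hx : (x : G) ∈ N
  · exact key x hx
  · let rS : (S : Subgroup G) := ⟨r', hr'S⟩
    have hy : ((x * rS : (S : Subgroup G)) : G) ∈ N := by
      show (x : G) * r' ∈ N
      rw [Subgroup.mul_mem_iff_of_index_two hidx]
      exact iff_of_false hx hr'N
    have hrS : rS * rS = 1 := Subtype.ext hr'2
    have hinv : rS⁻¹ = rS := inv_eq_of_mul_eq_one_right hrS
    have e : x ^ 2 = (x * rS) ^ 2 * ⁅(x * rS)⁻¹, rS⁆ := by
      rw [commutatorElement_def, hinv, inv_inv]
      generalize hy' : x * rS = y
      have hx' : x = y * rS := by rw [← hy', mul_assoc, hrS, mul_one]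
      rw [hx', pow_two, pow_two]
      group
    rw [e]
    exact mul_mem (key _ hy) (Subgroup.commutator_mem_commutator (Subgroup.mem_top _) (Subgroup.mem_top _))

variable {F : Type*} [Field F]

/-! ### The special orthogonal group -/

/-- The kernel of the Dickson invariant. -/
noncomputable def so {V : Type*} [AddCommGroup V] [Module F V] [FiniteDimensional F V]
    {Q : QuadraticForm F V} (hQ : Nondeg Q) (h2 : (2 : F) ≠ 0) : Subgroup (orth Q) :=
  (dicksonHom hQ (Or.inl (exists_ne01 h2))).ker

theorem mem_so {V : Type*} [AddCommGroup V] [Module F V] [FiniteDimensional F V]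
    {Q : QuadraticForm F V} (hQ : Nondeg Q) (h2 : (2 : F) ≠ 0) (g : orth Q) :
    g ∈ so hQ h2 ↔ dickson Q g = 0 := ofAdd_eq_one

theorem dickson_congr {V W : Type*} [AddCommGroup V] [Module F V] [AddCommGroup W] [Module F W]
    {Q : QuadraticForm F V} {Q' : QuadraticForm F W} (e : Q.IsometryEquiv Q') (g : orth Q) :
    dickson Q' (orthCongr e g) = dickson Q g := by
  have h : LinearMap.range (dev (orthCongr e g).1) =
      (LinearMap.range (dev g.1)).map (e.toLinearEquiv : V →ₗ[F] W) := by
    have : dev (orthCongr e g).1 =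
        ((e.toLinearEquiv : V →ₗ[F] W).comp (dev g.1)).comp (e.toLinearEquiv.symm : W →ₗ[F] V) := by
      refine LinearMap.ext fun w => ?_
      show e.toLinearEquiv (g.1 (e.toLinearEquiv.symm w)) - w =
        e.toLinearEquiv (g.1 (e.toLinearEquiv.symm w) - e.toLinearEquiv.symm w)
      rw [map_sub, LinearEquiv.apply_symm_apply]
    rw [this, LinearMap.range_comp_of_range_eq_top _ (LinearEquiv.range _), LinearMap.range_comp]
  rw [dickson, dickson, h, LinearEquiv.finrank_map_eq]

theorem exists_ne_self_neg (h2 : (2 : F) ≠ 0) {V : Type*} [AddCommGroup V] [Module F V] {v : V}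
    (hv : v ≠ 0) : -v ≠ v := fun h => by
  have h' : (2 : F) • v = 0 := by rw [two_smul]; nth_rw 1 [← h]; exact neg_add_cancel v
  exact hv ((smul_eq_zero.1 h').resolve_left h2)

section Central

variable [Finite F] {U : Type*} [AddCommGroup U] [Module F U] [FiniteDimensional F U]

/-- An involution of a plane centralising a 2-group of order at least 8 is `±1`. -/
theorem plane_involution (h2 : (2 : F) ≠ 0) (P : QuadraticForm F U) (hP : Nondeg P)
    (hU : finrank F U = 2) (D : Subgroup (orth P)) (hD : 8 ≤ Nat.card D) (g : orth P)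
    (hg : g * g = 1) (hcomm : ∀ d ∈ D, d * g = g * d) :
    (∀ v, g.1 v = v) ∨ ∀ v, g.1 v = -v := by
  classical
  haveI := Fintype.ofFinite F
  have hgg : ∀ v, g.1 (g.1 v) = v := fun v => LinearEquiv.congr_fun (congrArg Subtype.val hg) v
  have hle : finrank F (LinearMap.range (dev g.1)) ≤ 2 := (Submodule.finrank_le _).trans hU.le
  rcases Nat.lt_or_ge (finrank F (LinearMap.range (dev g.1))) 1 with h0 | h1
  · left
    intro v
    have : LinearMap.range (dev g.1) = ⊥ := Submodule.finrank_eq_zero.1 (by omega)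
    exact sub_eq_zero.1 (LinearMap.congr_fun (LinearMap.range_eq_bot.1 this) v)
  rcases Nat.lt_or_ge (finrank F (LinearMap.range (dev g.1))) 2 with h1' | h2'
  · exfalso
    obtain ⟨u, hu, rfl⟩ := SquareClass.eq_orefl_of_range h2 hP g (by omega)
    have hu0 : u ≠ 0 := fun h => hu (by rw [h, QuadraticMap.map_zero])
    have hline : ∀ d ∈ D, d.1 u = u ∨ d.1 u = -u := by
      intro d hd
      have h := LinearEquiv.congr_fun (congrArg Subtype.val (hcomm d hd)) u
      replace h : d.1 (refl P u u) = refl P u (d.1 u) := h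
      rw [refl_self P hu, map_neg, refl_apply] at h
      -- `d u` is a multiple of `u`
      have h' : (2 : F) • d.1 u = ((P u)⁻¹ * polar P u (d.1 u)) • u := by
        rw [two_smul]
        linear_combination (norm := module) (-1 : F) • h
      set s := (2 : F)⁻¹ * ((P u)⁻¹ * polar P u (d.1 u)) with hs
      have hdu : d.1 u = s • u := by
        rw [hs, mul_smul, ← h', smul_smul, inv_mul_cancel₀ h2, one_smul]
      have hQ := d.2 u
      rw [hdu, QuadraticMap.map_smul, smul_eq_mul] at hQ
      rcases mul_self_eq_one_iff.1 (mul_right_cancel₀ hu (hQ.trans (one_mul _).symm)) with e | e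
      · left; rw [hdu, e, one_smul]
      · right; rw [hdu, e, neg_one_smul]
    obtain ⟨w, hw0, hw⟩ : ∃ w, w ≠ 0 ∧ polar P u w = 0 := by
      have : LinearMap.ker (polarBilin P u) ≠ ⊥ := fun h => by
        have := LinearMap.finrank_range_add_finrank_ker (polarBilin P u)
        rw [h, finrank_bot, hU] at this
        have := Submodule.finrank_le (LinearMap.range (polarBilin P u))
        rw [finrank_self] at this
        omega
      obtain ⟨w, hw, hw0⟩ := (Submodule.ne_bot_iff _).1 this
      exact ⟨w, hw0, hw⟩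
    have hli : LinearIndependent F ![u, w] := by
      refine LinearIndependent.pair_iff.2 fun s t hst => ?_
      have h := congrArg (polar P u) hst
      rw [polar_add_right, polar_smul_right, polar_smul_right, polar_zero_right, hw, polar_self',
        smul_eq_mul, smul_eq_mul, mul_zero, add_zero] at h
      have hs : s = 0 := (mul_eq_zero.1 h).resolve_right (mul_ne_zero h2 hu)
      exact ⟨hs, (smul_eq_zero.1 (by rwa [hs, zero_smul, zero_add] at hst)).resolve_right hw0⟩
    let B := basisOfLinearIndependentOfCardEqFinrank hli (by simp [hU])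
    have hB : ∀ x : U, x = B.repr x 0 • u + B.repr x 1 • w := fun x => by
      conv_lhs => rw [← B.sum_repr x, Fin.sum_univ_two]
      simp [B]
    have hw' : ∀ x, polar P u x = 0 → ∃ t : F, x = t • w := by
      intro x hx
      refine ⟨B.repr x 1, ?_⟩
      rw [hB x, polar_add_right, polar_smul_right, polar_smul_right, hw, polar_self', smul_eq_mul,
        smul_eq_mul, mul_zero, add_zero] at hx
      have h0 := (mul_eq_zero.1 hx).resolve_right (mul_ne_zero h2 hu)
      conv_lhs => rw [hB x, h0, zero_smul, zero_add]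
    have hwQ : P w ≠ 0 := fun h => hw0 (hP w fun y => by
      rw [hB y, polar_add_right, polar_smul_right, polar_smul_right, polar_comm P w u, hw, polar_self',
        h]
      simp)
    have hwline : ∀ d ∈ D, d.1 w = w ∨ d.1 w = -w := by
      intro d hd
      have h0 : polar P u (d.1 w) = 0 := by
        rcases hline d hd with e | e
        · have := orth_polar d.2 u w
          rwa [e, hw] at this
        · have := orth_polar d.2 u w
          rwa [e, hw, polar_neg_left, neg_eq_zero] at this
      obtain ⟨t, ht⟩ := hw' _ h0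
      have hQ := d.2 w
      rw [ht, QuadraticMap.map_smul, smul_eq_mul] at hQ
      rcases mul_self_eq_one_iff.1 (mul_right_cancel₀ hwQ (hQ.trans (one_mul _).symm)) with e | e
      · left; rw [ht, e, one_smul]
      · right; rw [ht, e, neg_one_smul]
    let f : D → Bool × Bool := fun d => (decide (d.1.1 u = u), decide (d.1.1 w = w))
    have hf : Function.Injective f := by
      intro d d' h
      simp only [f, Prod.mk.injEq, decide_eq_decide] at h
      have e1 : d.1.1 u = d'.1.1 u := by
        rcases hline _ d.2 with e | e <;> rcases hline _ d'.2 with e' | e'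
        · rw [e, e']
        · exact absurd ((h.1.1 e).symm.trans e') (exists_ne_self_neg h2 hu0).symm
        · exact absurd ((h.1.2 e').symm.trans e) (exists_ne_self_neg h2 hu0).symm
        · rw [e, e']
      have e2 : d.1.1 w = d'.1.1 w := by
        rcases hwline _ d.2 with e | e <;> rcases hwline _ d'.2 with e' | e'
        · rw [e, e']
        · exact absurd ((h.2.1 e).symm.trans e') (exists_ne_self_neg h2 hw0).symm
        · exact absurd ((h.2.2 e').symm.trans e) (exists_ne_self_neg h2 hw0).symm
        · rw [e, e']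
      refine Subtype.ext (Subtype.ext (LinearEquiv.ext fun x => ?_))
      rw [hB x, map_add, map_add, map_smul, map_smul, map_smul, map_smul, e1, e2]
    have := Nat.card_le_card_of_injective f hf
    rw [Nat.card_eq_fintype_card (α := Bool × Bool)] at this
    simp at this
    omega
  · right
    intro v
    have htop : LinearMap.range (dev g.1) = ⊤ :=
      Submodule.eq_top_of_finrank_eq (by omega)
    have hinj : Function.Injective (dev g.1) :=
      LinearMap.injective_iff_surjective.2 (LinearMap.range_eq_top.1 htop)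
    have : g.1 v + v = 0 := hinj (by
      rw [map_zero]
      show g.1 (g.1 v + v) - (g.1 v + v) = 0
      rw [map_add, hgg, add_comm, sub_self])
    exact eq_neg_of_add_eq_zero_left this

variable {P : QuadraticForm F U}

/-- A 2-subgroup of the special orthogonal group of two planes with centraliser involutions `±1`. -/
theorem exists_two_group (hP : Nondeg P) (h2 : (2 : F) ≠ 0) (hU : finrank F U = 2)
    (b : Basis (Fin 2) F U) (hb : polar P (b 0) (b 1) = 0)
    (h8 : 3 ≤ (Nat.card (orth P)).factorization 2) (c : Fin 0 → F)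
    (hQ : Nondeg (mQ (m := 2) P c)) :
    ∃ K : Subgroup (orth (mQ (m := 2) P c)), K ≤ so hQ h2 ∧ IsPGroup 2 K ∧
      ∀ z : orth (mQ (m := 2) P c), z * z = 1 → (∀ k ∈ K, k * z = z * k) →
        (∀ v, z.1 v = v) ∨ ∀ v, z.1 v = -v := by
  classical
  haveI : Fact (Nat.Prime 2) := ⟨Nat.prime_two⟩
  haveI := Module.finite_of_finite F (M := U)
  let D : Sylow 2 (orth P) := default
  let A₁ : (Fin 2 → (D : Subgroup (orth P))) →* orth (QuadraticMap.pi fun _ : Fin 2 => P) :=
    (orthPi fun _ : Fin 2 => P).comp
      (MonoidHom.pi fun i => (D : Subgroup (orth P)).subtype.comp (Pi.evalMonoidHom _ i))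
  have hcompat : ∀ t : Equiv.Perm (Fin 2), A₁.comp (mulAutArrow t).toMonoidHom =
      (MulAut.conj (orthPerm P t)).toMonoidHom.comp A₁ := by
    intro t
    refine MonoidHom.ext fun g => ?_
    show A₁ (mulAutArrow t g) = orthPerm P t * A₁ g * (orthPerm P t)⁻¹
    rw [eq_mul_inv_iff_mul_eq]
    exact Subtype.ext (LinearEquiv.ext fun v => funext fun i => by
      show (g (t⁻¹ • i)).1.1 (v (t.symm i)) = (g (t.symm i)).1.1 (v (t.symm i))
      rfl)
  let Φ : (Fin 2 → (D : Subgroup (orth P))) ⋊[mulAutArrow] Equiv.Perm (Fin 2) →* orth (mQ (m := 2) P c) :=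
    (orthProd _ _).comp ((MonoidHom.inl _ _).comp (SemidirectProduct.lift A₁ (orthPerm P) hcompat))
  have hpg : IsPGroup 2 ((Fin 2 → (D : Subgroup (orth P))) ⋊[mulAutArrow] Equiv.Perm (Fin 2)) := by
    refine IsPGroup.of_card (n := (Nat.card (orth P)).factorization 2 * 2 + 1) ?_
    rw [SemidirectProduct.card, Nat.card_fun, D.card_eq_multiplicity, Nat.card_perm, Nat.card_fin,
      ← pow_mul, pow_succ]
    rfl
  refine ⟨Φ.range ⊓ so hQ h2, inf_le_right, (IsPGroup.to_le (IsPGroup.map
    (H := ⊤) (hpg.to_subgroup ⊤) Φ) (inf_le_left.trans (le_of_eq Φ.range_eq_map))), ?_⟩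
  intro z hz hzc
  set hd := dicksonHom hQ (Or.inl (exists_ne01 h2))
  have hzero : ∀ v : (Fin 2 → U) × (Fin 0 → F), v = (v.1, 0) := fun v =>
    Prod.ext rfl (Subsingleton.elim _ _)
  have happ : ∀ w v, (Φ w).1 v =
      (fun i => (w.left i).1.1 (v.1 ((w.right).symm i)), v.2) := fun w v => rfl
  have hmem : ∀ w, hd (Φ w) = 1 → (Φ w).1.trans z.1 = z.1.trans (Φ w).1 := by
    intro w hw
    have := congrArg Subtype.val (hzc (Φ w) ⟨⟨w, rfl⟩, hw⟩)
    exact this.symm
  let h : ↥(D : Subgroup (orth P)) → orth (mQ (m := 2) P c) := fun d =>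
    Φ (SemidirectProduct.inl fun _ => d)
  -- the swap
  have hswap : hd (Φ (SemidirectProduct.inr (Equiv.swap 0 1))) = 1 := by
    have hne : ∀ k : Fin 2, P (b k) ≠ 0 := by
      intro k hk
      refine b.ne_zero k (hP _ fun w => ?_)
      rw [← b.sum_repr w, Fin.sum_univ_two, polar_add_right, polar_smul_right, polar_smul_right]
      fin_cases k <;>
        simp [polar_self', hb, polar_comm P (b 1) (b 0)] at hk ⊢ <;> simp [hk]
    have hS : Φ (SemidirectProduct.inr (Equiv.swap 0 1)) =
        orefl (mQ (m := 2) P c) (Pi.single 0 (b 0) - Pi.single 1 (b 0), 0) *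
          orefl (mQ (m := 2) P c) (Pi.single 0 (b 1) - Pi.single 1 (b 1), 0) := by
      show orthProd _ _ (SemidirectProduct.lift A₁ (orthPerm P) hcompat (SemidirectProduct.inr _), 1) = _
      rw [SemidirectProduct.lift_inr, orthPerm_swap P h2 b hb (hne 0) (hne 1) (by decide),
        ← mul_one (1 : orth (QuadraticMap.pi fun j => qOne (c j))), ← Prod.mk_mul_mk, map_mul,
        orthProd_orefl_left, orthProd_orefl_left]
    have hnz : ∀ k : Fin 2, mQ (m := 2) P c (Pi.single 0 (b k) - Pi.single 1 (b k), 0) ≠ 0 := fun k => by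
      rw [mQ, QuadraticMap.prod_apply, QuadraticMap.map_zero, add_zero, sub_eq_add_neg, Q_add,
        polar_neg_right, QuadraticMap.map_neg, pi_single, pi_single, pi_polar_single,
        Pi.single_eq_of_ne (by decide : (0 : Fin 2) ≠ 1), polar_zero_right, neg_zero, add_zero,
        ← two_mul]
      exact mul_ne_zero h2 (hne k)
    rw [hS, map_mul, dicksonHom_orefl _ _ (hnz 0), dicksonHom_orefl _ _ (hnz 1)]
    rfl
  -- conjugating by the swap
  have hdsq : ∀ d : (D : Subgroup (orth P)), hd (h d) = 1 := by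
    intro d
    let u : (Fin 2 → (D : Subgroup (orth P))) ⋊[mulAutArrow] Equiv.Perm (Fin 2) :=
      SemidirectProduct.inl (Pi.mulSingle 0 d)
    let v : (Fin 2 → (D : Subgroup (orth P))) ⋊[mulAutArrow] Equiv.Perm (Fin 2) :=
      SemidirectProduct.inr (Equiv.swap 0 1)
    have e : h d = Φ (u * (v * u * v⁻¹)) := by
      show Φ _ = _
      congr 1
      simp only [u, v]
      rw [← map_inv, ← SemidirectProduct.inl_aut, ← map_mul]
      congr 1
      funext i
      fin_cases i
      · show d = Pi.mulSingle (M := fun _ : Fin 2 => ↥(D : Subgroup (orth P))) 0 d 0 * Pi.mulSingle (M := fun _ : Fin 2 => ↥(D : Subgroup (orth P))) 0 d ((Equiv.swap (0 : Fin 2) 1)⁻¹ • (0 : Fin 2))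
        simp
      · show d = Pi.mulSingle (M := fun _ : Fin 2 => ↥(D : Subgroup (orth P))) 0 d 1 * Pi.mulSingle (M := fun _ : Fin 2 => ↥(D : Subgroup (orth P))) 0 d ((Equiv.swap (0 : Fin 2) 1)⁻¹ • (1 : Fin 2))
        simp
    rw [e]
    simp only [map_mul, map_inv]
    rw [mul_comm (hd (Φ v)), mul_inv_cancel_right]
    rcases mult_zmod2_cases (hd (Φ u)) with e | e <;> rw [e] <;> rfl
  -- minus one on the first plane
  obtain ⟨n, hn1, hn2⟩ : ∃ n : orth (mQ (m := 2) P c), n ∈ Φ.range ⊓ so hQ h2 ∧
      ∀ v, n.1 v = (fun i => if i = 0 then -(v.1 i) else v.1 i, v.2) := by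
    let m₁ : orth P := ⟨LinearEquiv.neg F, fun x => by
      show P (-x) = P x
      rw [QuadraticMap.map_neg]⟩
    have hm1 : m₁ ∈ (D : Subgroup (orth P)) := by
      have hc : ∀ g : orth P, g * m₁ = m₁ * g := fun g =>
        Subtype.ext (LinearEquiv.ext fun x => show g.1 (-x) = -(g.1 x) from map_neg _ _)
      have hp : IsPGroup 2 ↥(Subgroup.zpowers m₁) := by
        refine IsPGroup.of_card (n := 1) ?_
        rw [Nat.card_zpowers, pow_one]
        refine orderOf_eq_prime (Subtype.ext (LinearEquiv.ext fun x => ?_)) ?_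
        · show -(-x) = x
          rw [neg_neg]
        · intro he
          exact exists_ne_self_neg h2 (b.ne_zero 0)
            (LinearEquiv.congr_fun (congrArg Subtype.val he) (b 0))
      have hnorm : (Subgroup.zpowers m₁).Normal := by
        refine ⟨fun a ha g => ?_⟩
        obtain ⟨k, rfl⟩ := ha
        refine ⟨k, ?_⟩
        show m₁ ^ k = g * m₁ ^ k * g⁻¹
        rw [(Commute.zpow_right (show Commute g m₁ from hc g) k).eq, mul_inv_cancel_right]
      exact (hp.le_sylow_of_normal D) (Subgroup.mem_zpowers m₁)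
    refine ⟨Φ (SemidirectProduct.inl (Pi.mulSingle 0 ⟨m₁, hm1⟩)), ⟨⟨_, rfl⟩, ?_⟩, fun v => ?_⟩
    · have hz1 : ∀ k : Fin 2, P (b k) ≠ 0 := by
        intro k hk
        refine b.ne_zero k (hP _ fun w => ?_)
        rw [← b.sum_repr w, Fin.sum_univ_two, polar_add_right, polar_smul_right, polar_smul_right]
        fin_cases k <;>
          simp [polar_self', hb, polar_comm P (b 1) (b 0)] at hk ⊢ <;> simp [hk]
      have hm : m₁ = orefl P (b 0) * orefl P (b 1) := by
        refine Subtype.ext (LinearEquiv.ext fun x => ?_)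
        show -x = refl P (b 0) (refl P (b 1) x)
        rw [← b.sum_repr x, Fin.sum_univ_two]
        simp only [map_add, map_smul, refl_self P (hz1 1), refl_fix P (polar_comm P (b 0) (b 1) ▸ hb :
          polar P (b 1) (b 0) = 0), map_neg, refl_self P (hz1 0), refl_fix P hb, smul_neg, neg_add]
      show hd (orthProd _ _ (SemidirectProduct.lift A₁ (orthPerm P) hcompat (SemidirectProduct.inl _), 1)) = 1
      rw [SemidirectProduct.lift_inl]
      have : A₁ (Pi.mulSingle 0 ⟨m₁, hm1⟩) =
          orefl (QuadraticMap.pi fun _ : Fin 2 => P) (Pi.single 0 (b 0)) *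
            orefl (QuadraticMap.pi fun _ : Fin 2 => P) (Pi.single 0 (b 1)) := by
        rw [← orthPi_orefl (fun _ : Fin 2 => P) 0 (b 0), ← orthPi_orefl (fun _ : Fin 2 => P) 0 (b 1),
          ← map_mul]
        show orthPi _ _ = _
        congr 1
        funext k
        rcases eq_or_ne k 0 with rfl | h
        · simp [hm]
        · simp [Pi.mulSingle_eq_of_ne h]
      have hnz : ∀ k, mQ (m := 2) P c (Pi.single 0 (b k), 0) ≠ 0 := fun k => by
        rw [mQ, QuadraticMap.prod_apply, QuadraticMap.map_zero, add_zero, pi_single]; exact hz1 k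
      rw [this, ← mul_one (1 : orth (QuadraticMap.pi fun j => qOne (c j))), ← Prod.mk_mul_mk, map_mul,
        orthProd_orefl_left, orthProd_orefl_left, map_mul, dicksonHom_orefl _ _ (hnz 0),
        dicksonHom_orefl _ _ (hnz 1)]
      rfl
    · rw [happ]
      refine Prod.ext (funext fun i => ?_) rfl
      simp only [SemidirectProduct.left_inl, SemidirectProduct.right_inl]
      rcases eq_or_ne i 0 with rfl | hi
      · simp [Pi.mulSingle_eq_same]; rfl
      · simp [Pi.mulSingle_eq_of_ne hi, hi]; rfl
  have hnz : ∀ v, z.1 (n.1 v) = n.1 (z.1 v) := fun v =>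
    (LinearEquiv.congr_fun (congrArg Subtype.val (hzc n hn1)) v).symm
  -- the components
  let g₀ : U → U := fun x => (z.1 (Pi.single 0 x, 0)).1 0
  have hcomp0 : ∀ x, z.1 (Pi.single 0 x, 0) = (Pi.single 0 (g₀ x), 0) := by
    intro x
    have he : n.1 (Pi.single 0 x, 0) = -(Pi.single 0 x, 0) := by
      rw [hn2]
      refine Prod.ext (funext fun i => ?_) (Subsingleton.elim _ _)
      rcases eq_or_ne i 0 with rfl | hi
      · simp
      · simp [hi]
    have h := congrArg (fun p => p.1 1) (hnz (Pi.single 0 x, 0))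
    simp only [he, map_neg, hn2, Prod.fst_neg, Pi.neg_apply, one_ne_zero, if_false] at h
    have h' : (z.1 (Pi.single 0 x, 0)).1 1 = 0 := by
      by_contra hne
      exact exists_ne_self_neg h2 hne h
    refine Prod.ext (funext fun i => ?_) (Subsingleton.elim _ _)
    fin_cases i
    · simp [g₀]
    · simpa using h'
  have hcomp1 : ∀ x, z.1 (Pi.single 1 x, 0) = (Pi.single 1 (g₀ x), 0) := by
    intro x
    have e0 : ∀ y, (Φ (SemidirectProduct.inr (Equiv.swap 0 1))).1 (Pi.single 0 y, 0) =
        (Pi.single 1 y, 0) := fun y => by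
      rw [happ]
      refine Prod.ext (funext fun i => ?_) rfl
      fin_cases i <;> simp [Pi.single_apply]
    have h := LinearEquiv.congr_fun (hmem _ hswap) (Pi.single 0 x, 0)
    simp only [LinearEquiv.trans_apply, e0, hcomp0] at h
    exact h
  have hz' : ∀ (v : (Fin 2 → U) × (Fin 0 → F)) i, (z.1 v).1 i = g₀ (v.1 i) := by
    intro v i
    have hv : v = (Pi.single 0 (v.1 0), 0) + (Pi.single 1 (v.1 1), 0) := by
      refine Prod.ext (funext fun i => ?_) (Subsingleton.elim _ _)
      fin_cases i <;> simp
    conv_lhs => rw [hv, map_add, hcomp0, hcomp1]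
    fin_cases i <;> simp
  have hgP : ∀ x, P (g₀ x) = P x := fun x => by
    have := z.2 (Pi.single 0 x, 0)
    rw [hcomp0] at this
    simpa [mQ, pi_single] using this
  have hgg : ∀ x, g₀ (g₀ x) = x := fun x => by
    have := congrArg (fun p : (Fin 2 → U) × (Fin 0 → F) => p.1 0)
      (LinearEquiv.congr_fun (congrArg Subtype.val hz) (Pi.single 0 x, 0))
    change (z.1 (z.1 (Pi.single 0 x, 0))).1 0 = _ at this
    rw [hcomp0, hz'] at this
    change g₀ (Pi.single (M := fun _ : Fin 2 => U) 0 (g₀ x) 0) = Pi.single (M := fun _ : Fin 2 => U) 0 x 0 at this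
    rwa [Pi.single_eq_same, Pi.single_eq_same] at this
  let gL : U ≃ₗ[F] U :=
    { toFun := g₀
      map_add' := fun x y => by
        show (z.1 (Pi.single 0 (x + y), 0)).1 0 = _
        rw [Pi.single_add, show ((Pi.single 0 x + Pi.single 0 y, 0) : (Fin 2 → U) × (Fin 0 → F)) =
          (Pi.single 0 x, 0) + (Pi.single 0 y, 0) by simp, map_add]
        rfl
      map_smul' := fun s x => by
        show (z.1 (Pi.single 0 (s • x), 0)).1 0 = _
        rw [Pi.single_smul, show ((s • Pi.single 0 x, 0) : (Fin 2 → U) × (Fin 0 → F)) =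
          s • (Pi.single 0 x, 0) by simp, map_smul]
        rfl
      invFun := g₀
      left_inv := hgg
      right_inv := hgg }
  let g : orth P := ⟨gL, hgP⟩
  have hcardD : 8 ≤ Nat.card (D : Subgroup (orth P)) := by
    rw [D.card_eq_multiplicity]
    calc 8 = 2 ^ 3 := by norm_num
      _ ≤ _ := Nat.pow_le_pow_right (by norm_num) h8
  rcases plane_involution h2 P hP hU _ hcardD g (Subtype.ext (LinearEquiv.ext hgg)) (fun d hd' => by
      refine Subtype.ext (LinearEquiv.ext fun x => ?_)
      show d.1 (g₀ x) = g₀ (d.1 x)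
      have h := LinearEquiv.congr_fun (hmem _ (hdsq ⟨d, hd'⟩)) (Pi.single 0 x, 0)
      simp only [LinearEquiv.trans_apply] at h
      have h0 := congrArg (fun p : (Fin 2 → U) × (Fin 0 → F) => p.1 0) h
      simp only [hz', happ, SemidirectProduct.left_inl, SemidirectProduct.right_inl, Pi.single_eq_same,
        Equiv.Perm.one_def, Equiv.refl_symm, Equiv.refl_apply] at h0
      exact h0.symm) with hA | hA
  · left
    intro v
    exact Prod.ext (funext fun i => (hz' v i).trans (hA (v.1 i))) (Subsingleton.elim _ _)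
  · right
    intro v
    exact Prod.ext (funext fun i => (hz' v i).trans (hA (v.1 i))) (Subsingleton.elim _ _)

end Central

/-! ### Four dimensions -/

section Four

variable [Fintype F]

theorem three_le_tq {q : ℕ} (h1 : 1 < q) (hq : q % 2 = 1) : 3 ≤ tq q := by
  have h8 : 8 ∣ (q - 1) * (q + 1) := by
    have : (q - 1) * (q + 1) = q ^ 2 - 1 := by
      rw [mul_comm, ← Nat.sq_sub_sq, one_pow]
    rw [this]
    exact Nat.eight_dvd_sq_sub_one_of_odd (Nat.odd_iff.2 hq)
  exact (Nat.Prime.pow_dvd_iff_le_factorization Nat.prime_two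
    (Nat.mul_ne_zero (by omega) (by omega))).1 (by simpa using h8)

theorem card_orth_plane {q : ℕ} (hF : Fintype.card F = q) (hq : q % 2 = 1) :
    Nondeg (qBin (0 : F) 1) ∧ IsSquare (qBin (0 : F) 1 (Pi.single 0 1) * qBin (0 : F) 1 (Pi.single 1 1)) ∧
      (Nat.card (orth (qBin (0 : F) 1))).factorization 2 = tq q := by
  classical
  have hodd : Odd q := Nat.odd_iff.2 hq
  have h2 : (2 : F) ≠ 0 := Ring.two_ne_zero (ringChar_ne_two hF hodd)
  have h1 : 1 < q := hF ▸ Fintype.one_lt_card
  have hsq : IsSquare (qBin (0 : F) 1 (Pi.single 0 1) * qBin (0 : F) 1 (Pi.single 1 1)) := by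
    simp [qBin_apply]
  have hneg : IsSquare (-1 : F) ↔ q % 4 ≠ 3 := by rw [FiniteField.isSquare_neg_one_iff, hF]
  by_cases h4 : q % 4 = 3
  · have hab : ∀ z₁ z₂ : F, z₁ ^ 2 + 0 * z₁ * z₂ + 1 * z₂ ^ 2 = 0 → z₁ = 0 ∧ z₂ = 0 := by
      intro z₁ z₂ h
      have hz : z₂ = 0 := by
        by_contra hz
        exact (hneg.1 ⟨z₁ / z₂, by field_simp; linear_combination -h⟩) h4
      exact ⟨by subst hz; simpa using h, hz⟩
    refine ⟨qBin_nondeg hab, hsq, ?_⟩
    rw [card_orth_qBin hab, Nat.card_eq_fintype_card, hF, v2_mul (by norm_num) (by omega), v2_two,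
      tq, v2_mul (by omega) (by omega), v2_of_mod_four (n := q - 1) (by omega)]
  · have hnd : Nondeg (qBin (0 : F) 1) := by
      intro x hx
      have e0 := hx (Pi.single 0 1)
      have e1 := hx (Pi.single 1 1)
      simp [polar, qBin_apply] at e0 e1
      funext i
      fin_cases i
      · exact (mul_eq_zero.1 (by linear_combination e0 : (2 : F) * x 0 = 0)).resolve_left h2
      · exact (mul_eq_zero.1 (by linear_combination e1 : (2 : F) * x 1 = 0)).resolve_left h2
    refine ⟨hnd, hsq, ?_⟩
    have hiso : (qBin (0 : F) 1).Equivalent (qPlus (F := F) 1) := by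
      refine exists_isometry h2 _ _ (Pi.basisFun F (Fin 2)) (Pi.basisFun F (Fin 1 ⊕ Fin 1)) (by simp)
        hnd (qPlus_nondeg 1) ?_
      rw [gdet, gdet]
      simp only [Pi.basisFun_apply]
      rw [gram_plus, det_swap_blocks, Matrix.det_fin_two]
      simp [polar, qBin_apply]
      have e : (-((1 + 1 - 1 - 1) : F)) = 0 := by ring
      obtain ⟨s, hs⟩ := hneg.2 h4
      exact ⟨2 * s, by linear_combination (4 : F) * hs⟩
    rw [card_orth_congr hiso, ← OrthStd.card_isometry (OrthStd.quadFormPlus_eq 1),
      OrthStd.card_orth_plus hF 1 le_rfl]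
    simp only [mul_zero, pow_zero, mul_one, pow_one, Finset.range_zero, Finset.prod_empty, Nat.sub_self]
    rw [v2_mul (by norm_num) (by omega), v2_two, tq, v2_mul (by omega) (by omega),
      v2_of_mod_four (n := q + 1) (by omega), add_comm]

/-- Squares of a Sylow 2-subgroup of `SO₄⁺`, and its central involutions. -/
theorem sylow_so_four (h2 : (2 : F) ≠ 0) {q : ℕ} (hF : Fintype.card F = q) (hq : q % 2 = 1)
    {V : Type*} [AddCommGroup V] [Module F V] [FiniteDimensional F V] (Q : QuadraticForm F V)
    (hQ : Nondeg Q) (eV : Q.IsometryEquiv (qPlus (F := F) 2)) (S : Sylow 2 (so hQ h2)) :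
    (∀ x : (S : Subgroup (so hQ h2)), x ^ 2 ∈ commutator (S : Subgroup (so hQ h2))) ∧
      ∀ z ∈ (S : Subgroup (so hQ h2)), z * z = 1 → (∀ k ∈ (S : Subgroup (so hQ h2)), k * z = z * k) →
        (∀ v, z.1.1 v = v) ∨ ∀ v, z.1.1 v = -v := by
  classical
  haveI : Fact (Nat.Prime 2) := ⟨Nat.prime_two⟩
  haveI := Module.finite_of_finite F (M := V)
  obtain ⟨hPn, hPsq, hPc⟩ := card_orth_plane (F := F) hF hq
  have h1 : 1 < q := hF ▸ Fintype.one_lt_card
  let P := qBin (0 : F) 1
  let b := Pi.basisFun F (Fin 2)
  have hb : polar P (b 0) (b 1) = 0 := by simp [P, b, polar, qBin_apply]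
  let c : Fin 0 → F := fun j => j.elim0
  have hM : Nondeg (mQ (m := 2) P c) := mQ_nondeg P c hPn h2 (fun j => j.elim0)
  have hV : finrank F V = 4 := by
    rw [LinearEquiv.finrank_eq eV.toLinearEquiv, Module.finrank_fintype_fun_eq_card]; rfl
  have hn : 2 ≤ finrank F V := by omega
  have hgd : IsSquare (gdet (qPlus (F := F) 2) (Pi.basisFun F (Fin 2 ⊕ Fin 2))) := by
    rw [gdet]
    simp only [Pi.basisFun_apply]
    rw [gram_plus, det_swap_blocks]
    exact ⟨1, by ring⟩
  have hPb : IsSquare (P (b 0) * P (b 1)) := by simpa [P, b] using hPsq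
  obtain ⟨iso'⟩ := exists_isometry h2 (qPlus (F := F) 2) (mQ (m := 2) P c)
    (Pi.basisFun F (Fin 2 ⊕ Fin 2)) ((Pi.basis fun _ : Fin 2 => b).prod (Pi.basisFun F (Fin 0)))
    (by simp) (qPlus_nondeg 2) hM (by
      show IsSquare (_ * gdet ((QuadraticMap.pi fun _ : Fin 2 => P).prod (QuadraticMap.pi fun j => qOne (c j))) _)
      rw [gdet_prod]
      refine hgd.mul (IsSquare.mul ?_ ?_)
      · rw [gdet_diag]
        · rw [Fintype.prod_sigma]
          have : ∀ i : Fin 2, ∏ j : Fin 2, 2 * (QuadraticMap.pi fun _ : Fin 2 => P)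
              (Pi.basis (fun _ : Fin 2 => b) ⟨i, j⟩) = (2 * 2) * (P (b 0) * P (b 1)) := fun i => by
            rw [Fin.prod_univ_two, Pi.basis_apply, Pi.basis_apply, pi_single, pi_single]; ring
          simp only [this, Finset.prod_const]
          exact IsSquare.pow _ ((IsSquare.mul_self 2).mul hPb)
        · rintro ⟨i, j⟩ ⟨i', j'⟩ h
          rw [Pi.basis_apply, Pi.basis_apply, pi_polar_single]
          rcases eq_or_ne i i' with rfl | hi
          · have hj : j ≠ j' := fun e => h (by rw [e])
            rw [Pi.single_eq_same]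
            fin_cases j <;> fin_cases j' <;> first
              | exact absurd rfl hj
              | exact hb
              | (rw [polar_comm]; exact hb)
          · rw [Pi.single_eq_of_ne hi, polar_zero_right]
      · rw [gdet, Matrix.det_isEmpty]; exact IsSquare.one)
  let iso : Q.IsometryEquiv (mQ (m := 2) P c) := eV.trans iso'
  constructor
  · intro x
    have hsub : commutator (orth Q) ≤ so hQ h2 := Abelianization.commutator_subset_ker _
    have hsoIdx : (so hQ h2).index = 2 := by
      rw [so, Subgroup.index_ker]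
      obtain ⟨z, hz⟩ := exists_Q_eq hQ hn 1
      rw [MonoidHom.range_eq_top.2 fun d => by
        rcases mult_zmod2_cases d with rfl | rfl
        · exact ⟨1, map_one _⟩
        · exact ⟨orefl Q z, dicksonHom_orefl hQ _ (by rw [hz]; exact one_ne_zero)⟩,
        Subgroup.card_top]
      simp
    let N := (commutator (orth Q)).subgroupOf (so hQ h2)
    have hN2 : N.index = 2 := by
      have h := Subgroup.relIndex_mul_index hsub
      rw [index_commutator_odd hQ h2 hn, hsoIdx] at h
      show (commutator (orth Q)).relIndex (so hQ h2) = 2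
      omega
    have hcardO : (Nat.card (orth Q)).factorization 2 = 2 * tq q + (2).factorial.factorization 2 := by
      rw [card_orth_congr ⟨eV⟩, ← OrthStd.card_isometry (OrthStd.quadFormPlus_eq 2),
        OrthStd.card_orth_plus hF 2 (by norm_num)]
      have hle : q ≤ q ^ 2 := Nat.le_self_pow (by norm_num) q
      rw [show 2 - 1 = 1 from rfl,
        v2_mul (Nat.mul_ne_zero (Nat.mul_ne_zero two_ne_zero (pow_ne_zero _ (by omega))) (by omega))
          (prod_pow_ne_zero h1 _),
        v2_mul (Nat.mul_ne_zero two_ne_zero (pow_ne_zero _ (by omega))) (by omega),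
        v2_mul two_ne_zero (pow_ne_zero _ (by omega)), v2_pow_odd hq, v2_two, v2_prod h1 hq,
        show q ^ 2 - 1 = (q - 1) * (q + 1) by rw [mul_comm, ← Nat.sq_sub_sq, one_pow],
        show (q - 1) * (q + 1) = (q - 1) * (q + 1) from rfl]
      simp [tq, Nat.factorial, v2_two]
      omega
    obtain ⟨ν, hν⟩ := exists_nonsq (F := F) h2
    have hν0 : ν ≠ 0 := fun h => hν (h ▸ IsSquare.zero)
    -- an involution outside the commutator subgroup
    obtain ⟨r, hr, hr2⟩ : ∃ r : so hQ h2, r ∉ N ∧ r * r = 1 := by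
      obtain ⟨y, hy⟩ := exists_Q_eq hPn (by simp) (1 : F)
      obtain ⟨y', hy'⟩ := exists_Q_eq hPn (by simp) ν
      let v := iso.toLinearEquiv.symm (Pi.single 0 y, 0)
      let v' := iso.toLinearEquiv.symm (Pi.single 1 y', 0)
      have hv : ∀ w, Q (iso.toLinearEquiv.symm w) = mQ (m := 2) P c w := fun w => by
        rw [← iso.map_app]
        show mQ (m := 2) P c (iso.toLinearEquiv (iso.toLinearEquiv.symm w)) = _
        rw [LinearEquiv.apply_symm_apply]
      have hQv : Q v = 1 := by rw [hv, mQ, QuadraticMap.prod_apply, pi_single, QuadraticMap.map_zero, hy, add_zero]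
      have hQv' : Q v' = ν := by rw [hv, mQ, QuadraticMap.prod_apply, pi_single, QuadraticMap.map_zero, hy', add_zero]
      have hperp : polar Q v v' = 0 := by
        simp only [polar, v, v', ← map_add, hv]
        rw [← polar]
        show polar ((QuadraticMap.pi fun _ : Fin 2 => P).prod (QuadraticMap.pi fun j => qOne (c j))) _ _ = 0
        rw [prod_polar, pi_polar_single]
        simp
      have hd : orefl Q v * orefl Q v' ∈ so hQ h2 := by
        rw [so, MonoidHom.mem_ker, map_mul, dicksonHom_orefl _ _ (by rw [hQv]; exact one_ne_zero),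
          dicksonHom_orefl _ _ (by rw [hQv']; exact hν0)]
        rfl
      refine ⟨⟨_, hd⟩, fun h => ?_, Subtype.ext ?_⟩
      · have hc := (chi_eq_one_iff hQ h2 hn _).2 h
        change chi hQ h2 hn (orefl Q v * orefl Q v') = 1 at hc
        rw [map_mul, chi_orefl hQ h2 hn (by rw [hQv]; exact one_ne_zero),
          chi_orefl hQ h2 hn (by rw [hQv']; exact hν0), hQv, hQv'] at hc
        exact cls_mul_ne hν hc
      · show orefl Q v * orefl Q v' * (orefl Q v * orefl Q v') = 1
        have hinv : ∀ u, orefl Q u * orefl Q u = 1 := fun u => Subtype.ext (refl_mul_self Q u)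
        have hcm : orefl Q v * orefl Q v' * (orefl Q v)⁻¹ = orefl Q (refl Q v v') :=
          Subtype.ext (refl_conj (refl_mem Q v) v')
        rw [refl_fix Q hperp, mul_inv_eq_iff_eq_mul] at hcm
        conv_lhs => arg 1; rw [hcm]
        rw [mul_assoc, ← mul_assoc (orefl Q v) (orefl Q v), hinv, one_mul, hinv]
    refine sylow_sq_of_index_two N hN2 r hr hr2 (fun T y => ?_) S x
    exact sylow_square hF hq Q hQ ((Pi.basisFun F (Fin 2 ⊕ Fin 2)).map eV.toLinearEquiv.symm) 2 0 c
      (fun j => j.elim0) le_rfl (by simp) (by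
        rw [Finset.univ_eq_empty, Finset.prod_empty, mul_one]
        convert hgd using 1
        rw [gdet, gdet]
        congr 1
        ext i j
        simp only [Matrix.of_apply, Basis.map_apply, polar, ← map_add]
        congr 2 <;> rw [← eV.map_app] <;> exact congrArg _ (eV.toLinearEquiv.apply_symm_apply _)) (by omega)
      (Subgroup.subgroupOfEquivOfLe hsub) T y
  · intro z hzS hz hzc
    obtain ⟨K, hKso, hKp, hK⟩ := exists_two_group (U := Fin 2 → F) (P := P) hPn h2 (by simp) b hb
      (by rw [hPc]; exact three_le_tq h1 hq) c hM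
    let eo := orthCongr iso
    let φ : K →* so hQ h2 :=
      { toFun := fun k => ⟨eo.symm k.1, by
          rw [mem_so, ← dickson_congr iso, show orthCongr iso (eo.symm k.1) = k.1 from eo.apply_symm_apply _,
            ← mem_so hM h2]
          exact hKso k.2⟩
        map_one' := Subtype.ext (map_one eo.symm)
        map_mul' := fun a b => Subtype.ext (map_mul eo.symm a.1 b.1) }
    have hKp' : IsPGroup 2 ↥φ.range := by
      rw [MonoidHom.range_eq_map]; exact (hKp.to_subgroup ⊤).map φ
    obtain ⟨S₀, hS₀⟩ := hKp'.exists_le_sylow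
    obtain ⟨g, hg⟩ := MulAction.exists_smul_eq (so hQ h2) S₀ S
    have hconj : ∀ k : K, g * φ k * g⁻¹ ∈ (S : Subgroup (so hQ h2)) := fun k => by
      rw [← hg, Sylow.coe_subgroup_smul]
      exact Subgroup.mem_pointwise_smul_iff_inv_smul_mem.2 (by
        simpa [MulAut.smul_def, mul_assoc] using hS₀ ⟨k, rfl⟩)
    have hres := hK (eo (g⁻¹ * z * g : so hQ h2).1) (by
      rw [← map_mul, ← Subgroup.coe_mul,
        show g⁻¹ * z * g * (g⁻¹ * z * g) = g⁻¹ * (z * z) * g by group, hz, mul_one, inv_mul_cancel]
      exact map_one eo) (fun k hk => by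
      have h := hzc _ (hconj ⟨k, hk⟩)
      have h' : φ ⟨k, hk⟩ * (g⁻¹ * z * g) = g⁻¹ * z * g * φ ⟨k, hk⟩ := by
        calc φ ⟨k, hk⟩ * (g⁻¹ * z * g) = g⁻¹ * ((g * φ ⟨k, hk⟩ * g⁻¹) * z) * g := by group
          _ = g⁻¹ * (z * (g * φ ⟨k, hk⟩ * g⁻¹)) * g := by rw [h]
          _ = _ := by group
      generalize g⁻¹ * z * g = w at h' ⊢
      have h'' := congrArg eo (congrArg Subtype.val h')
      rw [Subgroup.coe_mul, Subgroup.coe_mul, map_mul, map_mul] at h''
      rwa [show eo ((φ ⟨k, hk⟩ : so hQ h2) : orth Q) = k from eo.apply_symm_apply _] at h'')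
    rcases hres with h | h
    · left
      intro v
      have hw : (g⁻¹ * z * g).1 = 1 := by
        apply eo.injective
        rw [map_one]
        exact Subtype.ext (LinearEquiv.ext h)
      have : z = 1 := by
        have h0 : g⁻¹ * z * g = 1 := Subtype.ext hw
        calc z = g * (g⁻¹ * z * g) * g⁻¹ := by group
          _ = 1 := by rw [h0]; group
      rw [this]; rfl
    · right
      intro v
      have hw : ∀ u, (g⁻¹ * z * g).1.1 u = -u := fun u => by
        have := h (iso.toLinearEquiv u)
        change iso.toLinearEquiv ((g⁻¹ * z * g).1.1 (iso.toLinearEquiv.symm (iso.toLinearEquiv u))) = _ at this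
        rw [LinearEquiv.symm_apply_apply, ← map_neg] at this
        exact iso.toLinearEquiv.injective this
      have h3 := hw (g⁻¹.1.1 v)
      change g⁻¹.1.1 (z.1.1 (g.1.1 (g⁻¹.1.1 v))) = _ at h3
      have hgi : ∀ u, g.1.1 (g⁻¹.1.1 u) = u := fun u =>
        LinearEquiv.congr_fun (congrArg (fun t : so hQ h2 => t.1.1) (mul_inv_cancel g)) u
      rw [hgi, ← map_neg] at h3
      exact g⁻¹.1.1.injective h3

end Four

end Cfsg.Agent.Lib.SylowOrth52
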