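/-
The automorphism group of the split octonion algebra in odd characteristic: the centraliser of an
involution is `SO₄⁺`, and it contains a Sylow 2-subgroup.
-/
import Cfsg.Agent.Lib.SylowOrth52.Special
import Cfsg.Prelude.Def_G2

set_option autoImplicit false
set_option linter.unusedSectionVars false

namespace Cfsg.Agent.Lib.SylowOrth52

open Module QuadraticMap Matrix
open Cfsg.Agent.Lib.Forms Cfsg.Agent.Lib.Orth52

variable {F : Type*} [Field F]

/-- Two by two matrices. -/
abbrev M₂ (F : Type*) := Matrix (Fin 2) (Fin 2) F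

theorem adj2_adj (X : M₂ F) : X.adjugate.adjugate = X := by
  ext i j; fin_cases i <;> fin_cases j <;> simp [Matrix.adjugate_fin_two]

theorem adj2_smul (s : F) (X : M₂ F) : (s • X).adjugate = s • X.adjugate := by
  ext i j; fin_cases i <;> fin_cases j <;> simp [Matrix.adjugate_fin_two]

theorem adj2_det (X : M₂ F) : X.adjugate.det = X.det := by
  simp [Matrix.adjugate_fin_two, Matrix.det_fin_two]; ring

/-- The coordinates of a two by two matrix, adapted to the split form. -/
def mE (F : Type*) [Field F] : M₂ F ≃ₗ[F] (Fin 2 ⊕ Fin 2 → F) where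
  toFun X := Sum.elim ![X 0 0, X 0 1] ![X 1 1, -X 1 0]
  map_add' X Y := by
    funext j; rcases j with j | j <;> fin_cases j <;> simp [add_comm]
  map_smul' s X := by
    funext j; rcases j with j | j <;> fin_cases j <;> simp
  invFun v := !![v (.inl 0), v (.inl 1); -v (.inr 1), v (.inr 0)]
  left_inv X := by ext i j; fin_cases i <;> fin_cases j <;> simp
  right_inv v := by funext j; rcases j with j | j <;> fin_cases j <;> simp

/-- The determinant form. -/
def qD (F : Type*) [Field F] : QuadraticForm F (M₂ F) := (qPlus (F := F) 2).comp (mE F).toLinearMap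

theorem qD_apply (X : M₂ F) : qD F X = X.det := by
  simp [qD, mE, qPlus_apply, Matrix.det_fin_two, Fin.sum_univ_two]; ring

/-- The determinant form is the split form. -/
def qDIso (F : Type*) [Field F] : (qD F).IsometryEquiv (qPlus (F := F) 2) :=
  { mE F with map_app' := fun _ => rfl }

theorem qD_nondeg : Nondeg (qD F) := by
  intro x hx
  refine (mE F).map_eq_zero_iff.1 (qPlus_nondeg 2 _ fun y => ?_)
  have := hx ((mE F).symm y)
  simpa [polar, qD, QuadraticMap.comp_apply] using this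

theorem refl_qD (v : M₂ F) (hv : v.det ≠ 0) (Y : M₂ F) :
    refl (qD F) v Y = -(v.det)⁻¹ • (v * Y.adjugate * v) := by
  rw [refl_apply]
  have hp : polar (qD F) v Y = v 0 0 * Y 1 1 + v 1 1 * Y 0 0 - v 0 1 * Y 1 0 - v 1 0 * Y 0 1 := by
    simp [polar, qD_apply, Matrix.det_fin_two]; ring
  rw [hp, qD_apply]
  have key : v.det • Y - (v 0 0 * Y 1 1 + v 1 1 * Y 0 0 - v 0 1 * Y 1 0 - v 1 0 * Y 0 1) • v =
      -(v * Y.adjugate * v) := by
    ext i j
    fin_cases i <;> fin_cases j <;>
      simp [Matrix.adjugate_fin_two, Matrix.det_fin_two, Matrix.mul_apply, Fin.sum_univ_two] <;> ring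
  calc Y - ((v.det)⁻¹ * (v 0 0 * Y 1 1 + v 1 1 * Y 0 0 - v 0 1 * Y 1 0 - v 1 0 * Y 0 1)) • v
      = (v.det)⁻¹ • (v.det • Y - (v 0 0 * Y 1 1 + v 1 1 * Y 0 0 - v 0 1 * Y 1 0 - v 1 0 * Y 0 1) • v) := by
        rw [smul_sub, smul_smul, inv_mul_cancel₀ hv, one_smul, smul_smul]
    _ = -(v.det)⁻¹ • (v * Y.adjugate * v) := by rw [key, smul_neg, neg_smul]

/-! ### The algebra -/

/-- The product in the coordinates quaternions + quaternions. -/
def oMul (p q : M₂ F × M₂ F) : M₂ F × M₂ F :=
  (p.1 * q.1 - q.2.adjugate * p.2, q.2 * p.1 + p.2 * q.1.adjugate)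

/-- Coordinates of the split octonions. -/
def zC (F : Type*) [Field F] : (M₂ F × M₂ F) ≃ₗ[F] (Fin 8 → F) where
  toFun p := ![p.1 0 0, p.1 0 1, p.2 0 0, p.2 1 0, p.1 1 0, -p.2 1 1, p.2 0 1, p.1 1 1]
  map_add' p q := by funext j; fin_cases j <;> simp [add_comm]
  map_smul' s p := by funext j; fin_cases j <;> simp
  invFun v := (!![v 0, v 1; v 4, v 7], !![v 2, v 6; v 3, -v 5])
  left_inv p := by
    refine Prod.ext ?_ ?_ <;> ext i j <;> fin_cases i <;> fin_cases j <;> simp
  right_inv v := by funext j; fin_cases j <;> simp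

theorem zC_mul (p q : M₂ F × M₂ F) :
    Cfsg.Lie.zornMul (zC F p) (zC F q) = zC F (oMul p q) := by
  funext j
  fin_cases j <;>
    simp [Cfsg.Lie.zornMul, zC, oMul, Cfsg.Lie.dot3, Cfsg.Lie.cross3, Cfsg.Lie.zA, Cfsg.Lie.zB,
      Matrix.adjugate_fin_two, Matrix.mul_apply, Matrix.vecMul, dotProduct, Fin.sum_univ_two] <;> ring

/-- Automorphisms in the new coordinates. -/
def oAut (F : Type*) [Field F] : Subgroup ((M₂ F × M₂ F) ≃ₗ[F] (M₂ F × M₂ F)) where
  carrier := {L | ∀ p q, L (oMul p q) = oMul (L p) (L q)}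
  mul_mem' {L L'} h h' := fun p q => by
    show L (L' (oMul p q)) = oMul (L (L' p)) (L (L' q))
    rw [h', h]
  one_mem' := fun p q => rfl
  inv_mem' {L} h := fun p q => by
    show L.symm (oMul p q) = oMul (L.symm p) (L.symm q)
    rw [LinearEquiv.symm_apply_eq, h, LinearEquiv.apply_symm_apply, LinearEquiv.apply_symm_apply]

theorem mem_oAut {L : (M₂ F × M₂ F) ≃ₗ[F] (M₂ F × M₂ F)} :
    L ∈ oAut F ↔ ∀ p q, L (oMul p q) = oMul (L p) (L q) := Iff.rfl

/-- Change of coordinates on linear groups. -/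
noncomputable def zConj (F : Type*) [Field F] :
    Matrix.GeneralLinearGroup (Fin 8) F ≃* ((M₂ F × M₂ F) ≃ₗ[F] (M₂ F × M₂ F)) :=
  glEquiv.trans
    { toFun := fun L => (zC F).trans (L.trans (zC F).symm)
      invFun := fun L => (zC F).symm.trans (L.trans (zC F))
      left_inv := fun L => by ext v; simp
      right_inv := fun L => by refine LinearEquiv.ext fun p => ?_; simp
      map_mul' := fun L L' => by refine LinearEquiv.ext fun p => ?_; simp [LinearEquiv.mul_apply] }

theorem zConj_apply (g : Matrix.GeneralLinearGroup (Fin 8) F) (p : M₂ F × M₂ F) :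
    zConj F g p = (zC F).symm ((g : Matrix (Fin 8) (Fin 8) F) *ᵥ zC F p) := rfl

theorem map_zConj : (Cfsg.Lie.G2 F).map (zConj F).toMonoidHom = oAut F := by
  ext L
  rw [Subgroup.mem_map_equiv, mem_oAut]
  obtain ⟨g, rfl⟩ := (zConj F).surjective L
  rw [MulEquiv.symm_apply_apply]
  constructor
  · intro h p q
    rw [zConj_apply, LinearEquiv.symm_apply_eq, ← zC_mul, ← zC_mul, zConj_apply, zConj_apply,
      LinearEquiv.apply_symm_apply, LinearEquiv.apply_symm_apply]
    exact h _ _
  · intro h x y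
    show (g : Matrix (Fin 8) (Fin 8) F) *ᵥ Cfsg.Lie.zornMul x y =
      Cfsg.Lie.zornMul ((g : Matrix (Fin 8) (Fin 8) F) *ᵥ x) ((g : Matrix (Fin 8) (Fin 8) F) *ᵥ y)
    have := congrArg (zC F) (h ((zC F).symm x) ((zC F).symm y))
    rw [← zC_mul, zConj_apply, zConj_apply, zConj_apply, LinearEquiv.apply_symm_apply, ← zC_mul,
      LinearEquiv.apply_symm_apply, LinearEquiv.apply_symm_apply, LinearEquiv.apply_symm_apply,
      LinearEquiv.apply_symm_apply] at this
    exact this

/-- The group in the new coordinates. -/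
noncomputable def g2Equiv (F : Type*) [Field F] : Cfsg.Lie.G2 F ≃* oAut F :=
  ((zConj F).subgroupMap (Cfsg.Lie.G2 F)).trans (MulEquiv.subgroupCongr map_zConj)

/-- The involution. -/
def tau (F : Type*) [Field F] : oAut F :=
  ⟨(LinearEquiv.refl F (M₂ F)).prodCongr (LinearEquiv.neg F), fun p q => by
    show ((oMul p q).1, -(oMul p q).2) = oMul (p.1, -p.2) (q.1, -q.2)
    have h : (-q.2).adjugate = -q.2.adjugate := by
      rw [← neg_one_smul F q.2, adj2_smul, neg_one_smul]
    refine Prod.ext ?_ ?_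
    · show p.1 * q.1 - q.2.adjugate * p.2 = p.1 * q.1 - (-q.2).adjugate * -p.2
      rw [h, neg_mul_neg]
    · show -(q.2 * p.1 + p.2 * q.1.adjugate) = -q.2 * p.1 + -p.2 * q.1.adjugate
      rw [neg_mul, neg_mul, neg_add]⟩

theorem tau_apply (p : M₂ F × M₂ F) : (tau F).1 p = (p.1, -p.2) := rfl

theorem tau_sq : tau F * tau F = 1 := Subtype.ext (LinearEquiv.ext fun p => by
  show ((tau F).1 ((tau F).1 p)) = p
  rw [tau_apply, tau_apply, neg_neg])

/-! ### The centraliser -/

/-- The centraliser of the involution. -/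
def cTau (F : Type*) [Field F] : Subgroup (oAut F) := Subgroup.centralizer {tau F}

theorem tau_mem : tau F ∈ cTau F := by
  rw [cTau, Subgroup.mem_centralizer_iff]
  rintro _ rfl; rfl

theorem tau_comm (g : cTau F) (p : M₂ F × M₂ F) : g.1.1 ((tau F).1 p) = (tau F).1 (g.1.1 p) := by
  have h := Subgroup.mem_centralizer_iff.1 g.2 _ rfl
  exact (LinearEquiv.congr_fun (congrArg Subtype.val h) p).symm

theorem eq_zero_of_neg (h2 : (2 : F) ≠ 0) {X : M₂ F} (h : X = -X) : X = 0 := by
  have h' : (2 : F) • X = 0 := by rw [two_smul]; nth_rw 2 [h]; exact add_neg_cancel X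
  exact (smul_eq_zero.1 h').resolve_left h2

theorem snd_part (h2 : (2 : F) ≠ 0) (g : cTau F) (Y : M₂ F) :
    g.1.1 (0, Y) = (0, (g.1.1 (0, Y)).2) := by
  have h := tau_comm g (0, Y)
  rw [tau_apply, show ((0 : M₂ F), -Y) = -((0 : M₂ F), Y) by simp, map_neg] at h
  have h1 := congrArg Prod.fst h
  rw [tau_apply, Prod.fst_neg] at h1
  exact Prod.ext (eq_zero_of_neg h2 h1.symm) rfl

theorem fst_part (h2 : (2 : F) ≠ 0) (g : cTau F) (x : M₂ F) :
    g.1.1 (x, 0) = ((g.1.1 (x, 0)).1, 0) := by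
  have h := tau_comm g (x, 0)
  rw [tau_apply, neg_zero] at h
  have h1 := congrArg Prod.snd h
  rw [tau_apply] at h1
  exact Prod.ext rfl (eq_zero_of_neg h2 h1)

theorem oMul_snd (Y W : M₂ F) : oMul (0, Y) (0, W) = (-(W.adjugate * Y), 0) := by
  simp [oMul, Matrix.adjugate_zero]

theorem oMul_snd_fst (Y X : M₂ F) : oMul (0, Y) (X, 0) = (0, Y * X.adjugate) := by
  simp [oMul, Matrix.adjugate_zero]

theorem oMul_one_left (p : M₂ F × M₂ F) : oMul (1, 0) p = p := by
  refine Prod.ext ?_ ?_ <;> simp [oMul]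

theorem oMul_one_right (p : M₂ F × M₂ F) : oMul p (1, 0) = p := by
  refine Prod.ext ?_ ?_ <;> simp [oMul, Matrix.adjugate_zero]

theorem map_one_elt (L : oAut F) : L.1 (1, 0) = (1, 0) := by
  have h := L.2 (1, 0) (L.1.symm (1, 0))
  rw [oMul_one_left, LinearEquiv.apply_symm_apply, oMul_one_right] at h
  exact h.symm

/-- The action on the second component. -/
def rhoLin (h2 : (2 : F) ≠ 0) (g : cTau F) : M₂ F ≃ₗ[F] M₂ F where
  toFun Y := (g.1.1 (0, Y)).2
  map_add' Y W := by
    rw [show ((0 : M₂ F), Y + W) = (0, Y) + (0, W) by simp, map_add]; rfl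
  map_smul' s Y := by
    rw [show ((0 : M₂ F), s • Y) = s • ((0 : M₂ F), Y) by simp, map_smul]; rfl
  invFun Y := ((g⁻¹).1.1 (0, Y)).2
  left_inv Y := by
    show ((g⁻¹).1.1 (0, (g.1.1 (0, Y)).2)).2 = Y
    rw [← snd_part h2 g Y]
    show (g.1.1.symm (g.1.1 (0, Y))).2 = Y
    rw [LinearEquiv.symm_apply_apply]
  right_inv Y := by
    show (g.1.1 (0, ((g⁻¹).1.1 (0, Y)).2)).2 = Y
    rw [← snd_part h2 g⁻¹ Y]
    show (g.1.1 (g.1.1.symm (0, Y))).2 = Y
    rw [LinearEquiv.apply_symm_apply]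

theorem rhoLin_spec (h2 : (2 : F) ≠ 0) (g : cTau F) (Y : M₂ F) :
    g.1.1 (0, Y) = (0, rhoLin h2 g Y) := snd_part h2 g Y

theorem rhoLin_det (h2 : (2 : F) ≠ 0) (g : cTau F) (Y : M₂ F) :
    (rhoLin h2 g Y).det = Y.det := by
  have h := g.1.2 (0, Y) (0, Y)
  rw [oMul_snd, rhoLin_spec h2, oMul_snd, Matrix.adjugate_mul, Matrix.adjugate_mul,
    show ((-(Y.det • (1 : M₂ F))), (0 : M₂ F)) = (-Y.det) • ((1 : M₂ F), (0 : M₂ F)) by simp,
    map_smul, map_one_elt] at h
  have h0 := congrArg (fun p : M₂ F × M₂ F => p.1 0 0) h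
  simp at h0
  exact h0.symm

/-- The restriction to the second component. -/
def rho (h2 : (2 : F) ≠ 0) : cTau F →* orth (qD F) where
  toFun g := ⟨rhoLin h2 g, fun Y => by rw [qD_apply, qD_apply, rhoLin_det]⟩
  map_one' := rfl
  map_mul' g g' := Subtype.ext (LinearEquiv.ext fun Y => by
    show (g.1.1 (g'.1.1 (0, Y))).2 = (g.1.1 (0, (g'.1.1 (0, Y)).2)).2
    rw [← snd_part h2 g' Y])

theorem rho_injective (h2 : (2 : F) ≠ 0) : Function.Injective (rho (F := F) h2) := by
  refine (injective_iff_map_eq_one _).2 fun g hg => ?_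
  have hY : ∀ Y, g.1.1 (0, Y) = (0, Y) := fun Y => by
    rw [rhoLin_spec h2]
    exact congrArg (Prod.mk 0) (LinearEquiv.congr_fun (congrArg Subtype.val hg) Y)
  refine Subtype.ext (Subtype.ext (LinearEquiv.ext fun p => ?_))
  have hx : ∀ x, g.1.1 (x, 0) = (x, 0) := fun x => by
    have h := g.1.2 (0, -x) (0, 1)
    rw [oMul_snd, hY, hY, oMul_snd] at h
    simpa [Matrix.adjugate_one] using h
  show g.1.1 p = p
  rw [show p = (p.1, 0) + (0, p.2) by simp, map_add, hx, hY]

theorem rho_tau (h2 : (2 : F) ≠ 0) (Y : M₂ F) : (rho h2 ⟨tau F, tau_mem⟩).1 Y = -Y := rfl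

/-! ### The image -/

/-- The automorphisms given by two matrices of equal determinant. -/
noncomputable def pairAut (a c : M₂ F) (ha : a.det ≠ 0) (hac : c.det = a.det) :
    (M₂ F × M₂ F) ≃ₗ[F] (M₂ F × M₂ F) where
  toFun p := ((a.det)⁻¹ • (a * p.1 * a.adjugate), (a.det)⁻¹ • (c * p.2 * a.adjugate))
  map_add' p q := by simp [mul_add, add_mul]
  map_smul' s p := by simp [smul_comm _ s]
  invFun p := ((a.det)⁻¹ • (a.adjugate * p.1 * a), (a.det)⁻¹ • (c.adjugate * p.2 * a))
  left_inv p := by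
    have e : ∀ (c : M₂ F) (_ : c.det = a.det) (x : M₂ F),
        (a.det)⁻¹ • (c.adjugate * ((a.det)⁻¹ • (c * x * a.adjugate)) * a) = x := by
      intro c hc x
      rw [Matrix.mul_smul, Matrix.smul_mul, smul_smul,
        show c.adjugate * (c * x * a.adjugate) * a = (c.adjugate * c) * x * (a.adjugate * a) by
          simp only [Matrix.mul_assoc],
        Matrix.adjugate_mul, Matrix.adjugate_mul, hc, Matrix.smul_mul, Matrix.one_mul, Matrix.mul_smul,
        Matrix.mul_one, smul_smul, smul_smul,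
        show a.det⁻¹ * a.det⁻¹ * a.det * a.det = 1 by field_simp, one_smul]
    exact Prod.ext (e a rfl p.1) (e c hac p.2)
  right_inv p := by
    have e : ∀ (c : M₂ F) (_ : c.det = a.det) (x : M₂ F),
        (a.det)⁻¹ • (c * ((a.det)⁻¹ • (c.adjugate * x * a)) * a.adjugate) = x := by
      intro c hc x
      rw [Matrix.mul_smul, Matrix.smul_mul, smul_smul,
        show c * (c.adjugate * x * a) * a.adjugate = (c * c.adjugate) * x * (a * a.adjugate) by
          simp only [Matrix.mul_assoc],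
        Matrix.mul_adjugate, Matrix.mul_adjugate, hc, Matrix.smul_mul, Matrix.one_mul, Matrix.mul_smul,
        Matrix.mul_one, smul_smul, smul_smul,
        show a.det⁻¹ * a.det⁻¹ * a.det * a.det = 1 by field_simp, one_smul]
    exact Prod.ext (e a rfl p.1) (e c hac p.2)

theorem pairAut_mem (a c : M₂ F) (ha : a.det ≠ 0) (hac : c.det = a.det) :
    pairAut a c ha hac ∈ oAut F := by
  rintro ⟨x, Y⟩ ⟨u, W⟩
  have hd : (a.det)⁻¹ * (a.det)⁻¹ * a.det = (a.det)⁻¹ := by field_simp
  refine Prod.ext ?_ ?_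
  · show (a.det)⁻¹ • (a * (x * u - W.adjugate * Y) * a.adjugate) =
      ((a.det)⁻¹ • (a * x * a.adjugate)) * ((a.det)⁻¹ • (a * u * a.adjugate)) -
        ((a.det)⁻¹ • (c * W * a.adjugate)).adjugate * ((a.det)⁻¹ • (c * Y * a.adjugate))
    rw [adj2_smul, Matrix.adjugate_mul_distrib, Matrix.adjugate_mul_distrib, adj2_adj,
      Matrix.smul_mul, Matrix.mul_smul, Matrix.smul_mul, Matrix.mul_smul, smul_smul,
      show a * x * a.adjugate * (a * u * a.adjugate) = a * x * (a.adjugate * a) * (u * a.adjugate) by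
        simp only [Matrix.mul_assoc],
      show a * (W.adjugate * c.adjugate) * (c * Y * a.adjugate) =
        a * W.adjugate * (c.adjugate * c) * (Y * a.adjugate) by simp only [Matrix.mul_assoc],
      Matrix.adjugate_mul, Matrix.adjugate_mul, hac]
    simp only [Matrix.mul_smul, Matrix.smul_mul, Matrix.mul_one, smul_smul, hd,
      Matrix.mul_sub, Matrix.sub_mul, Matrix.mul_assoc]
    rw [show (a.det)⁻¹ * ((a.det)⁻¹ * a.det) = (a.det)⁻¹ by field_simp, smul_sub]
  · show (a.det)⁻¹ • (c * (W * x + Y * u.adjugate) * a.adjugate) =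
      ((a.det)⁻¹ • (c * W * a.adjugate)) * ((a.det)⁻¹ • (a * x * a.adjugate)) +
        ((a.det)⁻¹ • (c * Y * a.adjugate)) * ((a.det)⁻¹ • (a * u * a.adjugate)).adjugate
    rw [adj2_smul, Matrix.adjugate_mul_distrib, Matrix.adjugate_mul_distrib, adj2_adj,
      Matrix.smul_mul, Matrix.mul_smul, Matrix.smul_mul, Matrix.mul_smul, smul_smul,
      show c * W * a.adjugate * (a * x * a.adjugate) = c * W * (a.adjugate * a) * (x * a.adjugate) by
        simp only [Matrix.mul_assoc],
      show c * Y * a.adjugate * (a * (u.adjugate * a.adjugate)) =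
        c * Y * (a.adjugate * a) * (u.adjugate * a.adjugate) by simp only [Matrix.mul_assoc],
      Matrix.adjugate_mul]
    simp only [Matrix.mul_smul, Matrix.smul_mul, Matrix.mul_one, smul_smul, hd,
      Matrix.mul_add, Matrix.add_mul, Matrix.mul_assoc]
    rw [show (a.det)⁻¹ * ((a.det)⁻¹ * a.det) = (a.det)⁻¹ by field_simp, smul_add]

theorem pair_mem_range (h2 : (2 : F) ≠ 0) {v u : M₂ F} (hv : qD F v ≠ 0) (hu : qD F u ≠ 0) :
    orefl (qD F) v * orefl (qD F) u ∈ (rho (F := F) h2).range := by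
  rw [qD_apply] at hv hu
  set a := v.adjugate * u with hadef
  set c := v * u.adjugate with hcdef
  have hda : a.det = v.det * u.det := by rw [hadef, Matrix.det_mul, adj2_det]
  have ha : a.det ≠ 0 := by rw [hda]; exact mul_ne_zero hv hu
  have hac : c.det = a.det := by rw [hcdef, Matrix.det_mul, adj2_det, hda]
  let L : oAut F := ⟨pairAut a c ha hac, pairAut_mem a c ha hac⟩
  have hL : L ∈ cTau F := by
    rw [cTau, Subgroup.mem_centralizer_iff]
    rintro _ rfl
    refine Subtype.ext (LinearEquiv.ext fun p => ?_)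
    show (tau F).1 (pairAut a c ha hac p) = pairAut a c ha hac ((tau F).1 p)
    simp [tau_apply, pairAut]
  refine ⟨⟨L, hL⟩, Subtype.ext (LinearEquiv.ext fun Y => ?_)⟩
  show (a.det)⁻¹ • (c * Y * a.adjugate) = refl (qD F) v (refl (qD F) u Y)
  rw [refl_qD u hu, refl_qD v hv, adj2_smul, Matrix.adjugate_mul_distrib, Matrix.adjugate_mul_distrib,
    adj2_adj, hadef, hcdef, Matrix.adjugate_mul_distrib, adj2_adj, Matrix.mul_smul, Matrix.smul_mul,
    smul_smul, Matrix.det_mul, adj2_det]
  congr 1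
  · field_simp
  · simp only [Matrix.mul_assoc]

theorem refl_not_mem (h2 : (2 : F) ≠ 0) {v : M₂ F} (hv : qD F v ≠ 0) :
    orefl (qD F) v ∉ (rho (F := F) h2).range := by
  rintro ⟨g, hg⟩
  rw [qD_apply] at hv
  have hr : ∀ Y, rhoLin h2 g Y = -(v.det)⁻¹ • (v * Y.adjugate * v) := fun Y => by
    rw [← refl_qD v hv]
    exact LinearEquiv.congr_fun (congrArg Subtype.val hg) Y
  have key : ∀ Y V : M₂ F, rhoLin h2 g (Y * V) =
      rhoLin h2 g Y * (rhoLin h2 g 1).adjugate * rhoLin h2 g V := by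
    intro Y V
    have h := g.1.2 (0, Y) (oMul (0, 1) (0, V))
    rw [g.1.2 (0, 1) (0, V), rhoLin_spec h2, rhoLin_spec h2, rhoLin_spec h2, oMul_snd, oMul_snd,
      oMul_snd_fst, oMul_snd_fst, rhoLin_spec h2] at h
    have h' := congrArg Prod.snd h
    simp only [show ∀ X : M₂ F, (-X).adjugate = -X.adjugate from fun X => by
        rw [← neg_one_smul F X, adj2_smul, neg_one_smul],
      Matrix.adjugate_mul_distrib, adj2_adj, Matrix.adjugate_one, Matrix.one_mul, Matrix.mul_one,
      Matrix.mul_neg, map_neg, neg_inj, Matrix.mul_assoc] at h' ⊢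
    exact h'
  have hcomm : ∀ Y V : M₂ F, V.adjugate * Y.adjugate = Y.adjugate * V.adjugate := by
    intro Y V
    have h := key Y V
    rw [hr, hr, hr, hr, Matrix.adjugate_mul_distrib, Matrix.adjugate_one, Matrix.mul_one, adj2_smul,
      Matrix.adjugate_mul_distrib] at h
    set d := v.det
    simp only [Matrix.smul_mul, Matrix.mul_smul, smul_smul, Matrix.mul_assoc] at h
    rw [show v * (Y.adjugate * (v * (v.adjugate * (v.adjugate * (v * (V.adjugate * v)))))) =
      v * (Y.adjugate * ((v * v.adjugate) * ((v.adjugate * v) * (V.adjugate * v)))) by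
        simp only [Matrix.mul_assoc], Matrix.mul_adjugate, Matrix.adjugate_mul] at h
    simp only [Matrix.smul_mul, Matrix.mul_smul, Matrix.one_mul, smul_smul] at h
    have hs : -d⁻¹ * -d⁻¹ * -d⁻¹ * v.det * v.det = -d⁻¹ := by
      rw [show v.det = d from rfl]; field_simp
    have h' := congrArg (fun X => v.adjugate * X * v.adjugate) h
    simp only [Matrix.mul_smul, Matrix.smul_mul] at h'
    rw [show v.adjugate * (v * (V.adjugate * (Y.adjugate * v))) * v.adjugate =
      (v.adjugate * v) * (V.adjugate * Y.adjugate) * (v * v.adjugate) by simp only [Matrix.mul_assoc],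
      show v.adjugate * (v * (Y.adjugate * (V.adjugate * v))) * v.adjugate =
      (v.adjugate * v) * (Y.adjugate * V.adjugate) * (v * v.adjugate) by simp only [Matrix.mul_assoc],
      Matrix.mul_adjugate, Matrix.adjugate_mul] at h'
    simp only [Matrix.smul_mul, Matrix.mul_smul, Matrix.one_mul, Matrix.mul_one, smul_smul] at h'
    refine smul_right_injective (M₂ F) (show -d⁻¹ * d * d ≠ 0 by
      simp [hv, d]) ?_
    convert h' using 2 <;> first | rfl | (rw [show v.det = d from rfl]; field_simp)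
  have h := hcomm !![0, 1; 0, 0] !![0, 0; 1, 0]
  have h00 := congrFun (congrFun h 0) 0
  simp [Matrix.adjugate_fin_two, Matrix.mul_apply, Fin.sum_univ_two] at h00

theorem range_rho [Finite F] (h2 : (2 : F) ≠ 0) :
    (rho (F := F) h2).range = so (qD_nondeg (F := F)) h2 := by
  classical
  have hQ := qD_nondeg (F := F)
  set R := (rho (F := F) h2).range
  set δ := dicksonHom hQ (Or.inl (exists_ne01 h2))
  have hall : ∀ g : orth (qD F), (δ g = 1 → g ∈ R) ∧
      (δ g ≠ 1 → ∀ v, qD F v ≠ 0 → g * orefl (qD F) v ∈ R) := by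
    intro g
    have hg : g ∈ Subgroup.closure (reflSet (qD F)) := by
      rw [closure_reflSet hQ (Or.inl (exists_ne01 h2))]; trivial
    have hinv : ∀ u, (orefl (qD F) u)⁻¹ = orefl (qD F) u := fun u =>
      inv_eq_of_mul_eq_one_left (Subtype.ext (refl_mul_self _ u))
    have step : ∀ x : orth (qD F), ∀ u, qD F u ≠ 0 → ((δ x = 1 → x ∈ R) ∧
        (δ x ≠ 1 → ∀ v, qD F v ≠ 0 → x * orefl (qD F) v ∈ R)) →
        ((δ (x * orefl (qD F) u) = 1 → x * orefl (qD F) u ∈ R) ∧
        (δ (x * orefl (qD F) u) ≠ 1 → ∀ v, qD F v ≠ 0 → x * orefl (qD F) u * orefl (qD F) v ∈ R)) := by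
      intro x u hu ih
      have hδ : δ (x * orefl (qD F) u) = δ x * Multiplicative.ofAdd 1 := by
        rw [map_mul, dicksonHom_orefl hQ _ hu]
      constructor
      · intro h
        refine ih.2 (fun h0 => ?_) u hu
        rw [hδ, h0, one_mul] at h
        exact absurd h (by decide)
      · intro h v hv
        rw [mul_assoc]
        refine mul_mem (ih.1 ?_) (pair_mem_range h2 hu hv)
        rcases mult_zmod2_cases (δ x) with e | e
        · exact e
        · rw [hδ, e] at h; exact absurd rfl h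
    induction hg using Subgroup.closure_induction_right with
    | one => exact ⟨fun _ => one_mem R, fun h => absurd (map_one δ) h⟩
    | mul_right x _ y hy ih =>
      obtain ⟨u, hu, rfl⟩ := hy
      exact step x u hu ih
    | mul_inv_cancel x _ y hy ih =>
      obtain ⟨u, hu, rfl⟩ := hy
      rw [hinv]
      exact step x u hu ih
  obtain ⟨v, hv⟩ : ∃ v : M₂ F, qD F v ≠ 0 := ⟨1, by rw [qD_apply]; simp⟩
  ext g
  rw [so, MonoidHom.mem_ker]
  refine ⟨fun hg => ?_, (hall g).1⟩
  by_contra h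
  have := mul_mem (inv_mem hg) ((hall g).2 h v hv)
  rw [inv_mul_cancel_left] at this
  exact refl_not_mem h2 hv this

/-- The centraliser of the involution is `SO₄⁺`. -/
noncomputable def cTauEquiv [Finite F] (h2 : (2 : F) ≠ 0) :
    cTau F ≃* so (qD_nondeg (F := F)) h2 :=
  (MonoidHom.ofInjective (rho_injective h2)).trans (MulEquiv.subgroupCongr (range_rho h2))

theorem sylow_oAut [Fintype F] (h2 : (2 : F) ≠ 0) {q : ℕ} (hF : Fintype.card F = q) (hq : q % 2 = 1)
    (S : Sylow 2 (oAut F)) (x : (S : Subgroup (oAut F))) : x ^ 2 ∈ commutator (S : Subgroup (oAut F)) := by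
  classical
  haveI : Fact (Nat.Prime 2) := ⟨Nat.prime_two⟩
  haveI : Finite (oAut F) := Finite.of_injective
    (fun L => ⇑L.1) fun L L' h => Subtype.ext (LinearEquiv.ext (congrFun h))
  let e := cTauEquiv (F := F) h2
  let W : Sylow 2 (cTau F) := default
  obtain ⟨S₀, hS₀⟩ := (W.2.map (cTau F).subtype).exists_le_sylow
  -- the involution lies in `W`
  have hτW : (⟨tau F, tau_mem⟩ : cTau F) ∈ (W : Subgroup (cTau F)) := by
    set t : cTau F := ⟨tau F, tau_mem⟩
    have hc : ∀ g : cTau F, g * t = t * g := fun g =>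
      Subtype.ext (Subgroup.mem_centralizer_iff.1 g.2 _ rfl).symm
    have ht1 : t ≠ 1 := fun he => by
      have h := LinearEquiv.congr_fun (congrArg (fun g : cTau F => g.1.1) he) (0, 1)
      change ((0 : M₂ F), -(1 : M₂ F)) = (0, 1) at h
      exact one_ne_zero (eq_zero_of_neg h2 (congrArg Prod.snd h).symm)
    have hp : IsPGroup 2 ↥(Subgroup.zpowers t) := by
      refine IsPGroup.of_card (n := 1) ?_
      rw [Nat.card_zpowers, pow_one]
      exact orderOf_eq_prime (Subtype.ext (by rw [pow_two]; exact tau_sq)) ht1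
    have hnorm : (Subgroup.zpowers t).Normal := by
      refine ⟨fun a ha g => ?_⟩
      obtain ⟨k, rfl⟩ := ha
      refine ⟨k, ?_⟩
      show t ^ k = g * t ^ k * g⁻¹
      rw [(Commute.zpow_right (show Commute g t from hc g) k).eq, mul_inv_cancel_right]
    exact (hp.le_sylow_of_normal W) (Subgroup.mem_zpowers t)
  have hτS : tau F ∈ (S₀ : Subgroup (oAut F)) := hS₀ ⟨_, hτW, rfl⟩
  -- the intersection with the centraliser
  have hW : (S₀ : Subgroup (oAut F)).comap (cTau F).subtype = (W : Subgroup (cTau F)) :=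
    W.3 (S₀.2.comap_of_injective _ (cTau F).subtype_injective) fun w hw => hS₀ ⟨w, hw, rfl⟩
  have hle : (S₀ : Subgroup (oAut F)) ≤ cTau F := by
    by_contra hnle
    set H := (cTau F).subgroupOf (S₀ : Subgroup (oAut F))
    have hHlt : H < ⊤ := lt_top_iff_ne_top.2 fun h => hnle (Subgroup.subgroupOf_eq_top.1 h)
    haveI : Group.IsNilpotent (S₀ : Subgroup (oAut F)) := S₀.2.isNilpotent
    obtain ⟨n, hn, hnH⟩ := SetLike.exists_of_lt (Group.normalizerCondition_of_isNilpotent H hHlt)
    let τS : (S₀ : Subgroup (oAut F)) := ⟨tau F, hτS⟩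
    have hτH : τS ∈ H := tau_mem
    have hzH : n * τS * n⁻¹ ∈ H := (Subgroup.mem_normalizer_iff.1 hn _).1 hτH
    let z : cTau F := ⟨(n * τS * n⁻¹ : (S₀ : Subgroup (oAut F))).1, hzH⟩
    have hzW : z ∈ (W : Subgroup (cTau F)) := by
      rw [← hW]; exact (n * τS * n⁻¹).2
    have hcent : ∀ k ∈ (W : Subgroup (cTau F)), k * z = z * k := by
      intro k hk
      rw [← hW] at hk
      let kS : (S₀ : Subgroup (oAut F)) := ⟨k.1, hk⟩
      have hkH : kS ∈ H := k.2
      have hk' : n⁻¹ * kS * n ∈ H := by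
        have := (Subgroup.mem_normalizer_iff.1 (inv_mem hn) kS).1 hkH
        rwa [inv_inv] at this
      have h := Subgroup.mem_centralizer_iff.1 hk' (tau F) rfl
      have h' : τS * (n⁻¹ * kS * n) = (n⁻¹ * kS * n) * τS := Subtype.ext h
      refine Subtype.ext ?_
      show (kS * (n * τS * n⁻¹) : (S₀ : Subgroup (oAut F))).1 = ((n * τS * n⁻¹) * kS : (S₀ : Subgroup (oAut F))).1
      refine congrArg Subtype.val ?_
      calc kS * (n * τS * n⁻¹) = n * ((n⁻¹ * kS * n) * τS) * n⁻¹ := by group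
        _ = n * (τS * (n⁻¹ * kS * n)) * n⁻¹ := by rw [h']
        _ = _ := by group
    have hz2 : z * z = 1 := by
      refine Subtype.ext ?_
      show ((n * τS * n⁻¹) * (n * τS * n⁻¹) : (S₀ : Subgroup (oAut F))).1 = 1
      rw [show (n * τS * n⁻¹) * (n * τS * n⁻¹) = n * (τS * τS) * n⁻¹ by group,
        show τS * τS = 1 from Subtype.ext tau_sq, mul_one, mul_inv_cancel]
      rfl
    let W' : Sylow 2 (so (qD_nondeg (F := F)) h2) := W.mapSurjective (f := e.toMonoidHom) e.surjective
    have hW'mem : ∀ k, k ∈ (W' : Subgroup (so (qD_nondeg (F := F)) h2)) ↔ e.symm k ∈ (W : Subgroup (cTau F)) := fun k => by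
      show k ∈ (W : Subgroup (cTau F)).map e.toMonoidHom ↔ _
      exact Subgroup.mem_map_equiv
    rcases (sylow_so_four h2 hF hq (qD F) qD_nondeg (qDIso F) W').2 (e z)
        ((hW'mem _).2 (by rwa [MulEquiv.symm_apply_apply])) (by rw [← map_mul, hz2, map_one]) (fun k hk => by
          have h := congrArg e (hcent _ ((hW'mem k).1 hk))
          rwa [map_mul, map_mul, MulEquiv.apply_symm_apply] at h) with h | h
    · have : z = 1 := by
        apply rho_injective h2
        rw [map_one]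
        exact Subtype.ext (LinearEquiv.ext h)
      have hn1 : n * τS * n⁻¹ = 1 := Subtype.ext (congrArg (fun w : cTau F => w.1) this :)
      have hτ1 : τS = 1 := by
        calc τS = n⁻¹ * (n * τS * n⁻¹) * n := by group
          _ = 1 := by rw [hn1]; group
      have h0 := LinearEquiv.congr_fun (congrArg (fun g : (S₀ : Subgroup (oAut F)) => g.1.1) hτ1) (0, 1)
      change ((0 : M₂ F), -(1 : M₂ F)) = (0, 1) at h0
      exact one_ne_zero (eq_zero_of_neg h2 (congrArg Prod.snd h0).symm)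
    · have : z = ⟨tau F, tau_mem⟩ := by
        apply rho_injective h2
        exact Subtype.ext (LinearEquiv.ext fun Y => (h Y).trans (rho_tau h2 Y).symm)
      apply hnH
      show (n : oAut F) ∈ cTau F
      rw [cTau, Subgroup.mem_centralizer_iff]
      rintro _ rfl
      have hn1 : n * τS * n⁻¹ = τS := Subtype.ext (congrArg (fun w : cTau F => w.1) this :)
      exact (congrArg Subtype.val (mul_inv_eq_iff_eq_mul.1 hn1)).symm
  -- transport
  obtain ⟨g, hg⟩ := MulAction.exists_smul_eq (oAut F) S₀ S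
  let W' : Sylow 2 (so (qD_nondeg (F := F)) h2) := W.mapSurjective (f := e.toMonoidHom) e.surjective
  let e₁ : (W' : Subgroup (so (qD_nondeg (F := F)) h2)) ≃* (W : Subgroup (cTau F)) :=
    (e.subgroupMap (W : Subgroup (cTau F))).symm
  let e₂ : (W : Subgroup (cTau F)) ≃* (S₀ : Subgroup (oAut F)) :=
    (MulEquiv.subgroupCongr hW.symm).trans (Subgroup.subgroupOfEquivOfLe hle)
  let e₃ : (S₀ : Subgroup (oAut F)) ≃* (S : Subgroup (oAut F)) :=
    (S₀.equivSMul g).trans (MulEquiv.subgroupCongr (congrArg Sylow.toSubgroup hg))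
  let E := (e₁.trans e₂).trans e₃
  obtain ⟨y, rfl⟩ := E.surjective x
  rw [← map_pow]
  have h := Subgroup.mem_map_of_mem E.toMonoidHom
    ((sylow_so_four h2 hF hq (qD F) qD_nondeg (qDIso F) W').1 y)
  rwa [map_commutator_equiv E] at h

end Cfsg.Agent.Lib.SylowOrth52
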