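/-
Sylow 2-subgroups of special linear groups of 2-power degree over fields with q = 1 (mod 4).
-/
import Cfsg.Agent.Lib.SylowOrth52.Wreath

set_option autoImplicit false
set_option linter.unusedSectionVars false

namespace Cfsg.Agent.Lib.SylowOrth52

open scoped Matrix commutatorElement

variable {F : Type*} [Field F] [Fintype F]

/-- A Sylow 2-subgroup of `Perm (Fin n)`, `n = 2^k`, generated by involutions, with exchanges. -/
theorem exists_goodSylow_trans (k : ℕ) : ∃ T : Subgroup (Equiv.Perm (Fin (2 ^ k))),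
    Nat.card T = 2 ^ (Nat.factorial (2 ^ k)).factorization 2 ∧
      (T : Subgroup _) ≤ Subgroup.closure {x | x ∈ T ∧ x ^ 2 = 1} ∧
      ∀ i j, ∃ t : T, t * t = 1 ∧ t.1 i = j := by
  haveI : Fact (Nat.Prime 2) := ⟨Nat.prime_two⟩
  obtain ⟨T₀, h1, h2⟩ := exists_goodSylow (2 ^ k)
  let e : Fin (2 ^ k) ≃ (Fin k → ZMod 2) := (Fintype.equivFinOfCardEq (by simp)).symm
  let tr : Multiplicative (Fin k → ZMod 2) →* Equiv.Perm (Fin (2 ^ k)) :=
    { toFun := fun v => e.trans ((Equiv.addRight v.toAdd).trans e.symm)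
      map_one' := by ext i; simp
      map_mul' := fun v w => by ext i; simp [add_assoc, add_comm v.toAdd] }
  have hp : IsPGroup 2 tr.range := by
    rw [MonoidHom.range_eq_map]
    refine ((IsPGroup.of_card (p := 2) (n := k) (G := Multiplicative (Fin k → ZMod 2)) ?_).to_subgroup ⊤).map tr
    rw [Nat.card_congr Multiplicative.toAdd, Nat.card_fun, Nat.card_zmod, Nat.card_fin]
  obtain ⟨S, hS⟩ := hp.exists_le_sylow
  let S₀ : Sylow 2 (Equiv.Perm (Fin (2 ^ k))) := Sylow.ofCard T₀ (by rw [h1, Nat.card_perm, Nat.card_fin])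
  obtain ⟨g, hg⟩ := MulAction.exists_smul_eq (Equiv.Perm (Fin (2 ^ k))) S₀ S
  refine ⟨(S : Subgroup (Equiv.Perm (Fin (2 ^ k)))), by rw [S.card_eq_multiplicity, Nat.card_perm, Nat.card_fin], ?_, fun i j => ?_⟩
  · have hmap : (S : Subgroup (Equiv.Perm (Fin (2 ^ k)))) = T₀.map (MulAut.conj g).toMonoidHom := by
      rw [← hg]; rfl
    rw [hmap]
    refine le_trans (Subgroup.map_mono h2) ?_
    rw [MonoidHom.map_closure]
    refine Subgroup.closure_mono ?_
    rintro _ ⟨x, ⟨hx, hx2⟩, rfl⟩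
    exact ⟨Subgroup.mem_map_of_mem _ hx, by rw [← map_pow, hx2, map_one]⟩
  · have hvv : ∀ v : Fin k → ZMod 2, v + v = 0 := fun v => funext fun i => CharTwo.add_self_eq_zero (v i)
    refine ⟨⟨tr (Multiplicative.ofAdd (e i + e j)), hS ⟨_, rfl⟩⟩, Subtype.ext ?_, ?_⟩
    · show tr _ * tr _ = 1
      rw [← map_mul, ← ofAdd_add, hvv, ofAdd_zero, map_one]
    · show e.symm (e i + (e i + e j)) = j
      rw [← add_assoc, hvv, zero_add, Equiv.symm_apply_apply]

section Monomial

variable {n : ℕ}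

/-- Monomial matrices. -/
def mono (T : Subgroup (Equiv.Perm (Fin n))) (C : Subgroup Fˣ) :
    (Fin n → C) ⋊[mulAutArrow] T →* Matrix (Fin n) (Fin n) F where
  toFun w := Matrix.diagonal (fun i => ((w.left i : Fˣ) : F)) * Matrix.permMatrixHom (n := Fin n) (R := F) w.right.1
  map_one' := by simp
  map_mul' w w' := by
    simp only [SemidirectProduct.mul_left, SemidirectProduct.mul_right, Subgroup.coe_mul, map_mul]
    have key : Matrix.permMatrixHom (n := Fin n) (R := F) w.right.1 *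
        Matrix.diagonal (fun i => ((w'.left i : Fˣ) : F)) =
        Matrix.diagonal (fun i => ((w'.left (w.right.1.symm i) : Fˣ) : F)) *
          Matrix.permMatrixHom (n := Fin n) (R := F) w.right.1 := by
      show (Equiv.toPEquiv (w.right.1⁻¹)).toMatrix * _ = _ * (Equiv.toPEquiv (w.right.1⁻¹)).toMatrix
      rw [PEquiv.toMatrix_toPEquiv_mul, PEquiv.mul_toMatrix_toPEquiv]
      ext x y
      simp [Matrix.diagonal_apply, Equiv.Perm.inv_def, Equiv.symm_apply_eq]
    simp only [mul_assoc]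
    rw [← mul_assoc (Matrix.permMatrixHom (n := Fin n) (R := F) w.right.1) (Matrix.diagonal _), key]
    simp only [← mul_assoc, Matrix.diagonal_mul_diagonal]
    congr 3

theorem mono_apply (T : Subgroup (Equiv.Perm (Fin n))) (C : Subgroup Fˣ) (w : (Fin n → C) ⋊[mulAutArrow] T) :
    mono T C w = Matrix.diagonal (fun i => ((w.left i : Fˣ) : F)) *
      (Equiv.toPEquiv (w.right.1⁻¹)).toMatrix := rfl

theorem mono_det (T : Subgroup (Equiv.Perm (Fin n))) (C : Subgroup Fˣ) (w : (Fin n → C) ⋊[mulAutArrow] T) :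
    (mono T C w).det =
      (((∏ i, (w.left i : Fˣ)) * Units.map (Int.castRingHom F).toMonoidHom (Equiv.Perm.sign w.right.1) : Fˣ) : F) := by
  rw [mono_apply, Matrix.det_mul, Matrix.det_diagonal, Units.val_mul, Units.coe_prod]
  show _ * (Equiv.Perm.permMatrix F (w.right.1⁻¹)).det = _
  rw [Matrix.det_permutation, Equiv.Perm.sign_inv]
  rfl

theorem mono_injective (T : Subgroup (Equiv.Perm (Fin n))) (C : Subgroup Fˣ) :
    Function.Injective (mono T C) := by
  refine (injective_iff_map_eq_one _).2 fun w hw => ?_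
  rw [mono_apply, PEquiv.mul_toMatrix_toPEquiv] at hw
  have hr : ∀ i, w.right.1 i = i := by
    intro i
    by_contra hne
    have h := congrFun (congrFun hw (w.right.1 i)) i
    rw [Matrix.submatrix_apply] at h
    simp [Equiv.Perm.inv_def, hne] at h
  have hT : w.right = 1 := Subtype.ext (Equiv.ext hr)
  refine SemidirectProduct.ext (funext fun i => Subtype.ext (Units.ext ?_)) hT
  have h := congrFun (congrFun hw i) i
  rw [hT, Matrix.submatrix_apply] at h
  simpa [Equiv.Perm.inv_def, Equiv.Perm.one_def] using h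

end Monomial

theorem sl_two_pow_sylow_sq (hF : Odd (Fintype.card F)) (h4 : Fintype.card F % 4 = 1) {n : ℕ} (k : ℕ)
    (hn : n = 2 ^ k) (P : Sylow 2 (Matrix.SpecialLinearGroup (Fin n) F)) (x : (P : Subgroup _)) :
    x ^ 2 ∈ commutator (P : Subgroup (Matrix.SpecialLinearGroup (Fin n) F)) := by
  classical
  haveI : Fact (Nat.Prime 2) := ⟨Nat.prime_two⟩
  have hq := Nat.odd_iff.1 hF
  have h1 : 1 < Fintype.card F := Fintype.one_lt_card
  have hn1 : 1 ≤ n := hn ▸ Nat.one_le_two_pow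
  obtain ⟨T, hTc, hTg, hTtr⟩ : ∃ T : Subgroup (Equiv.Perm (Fin n)),
      Nat.card T = 2 ^ (Nat.factorial n).factorization 2 ∧
      (T : Subgroup _) ≤ Subgroup.closure {x | x ∈ T ∧ x ^ 2 = 1} ∧
      ∀ i j, ∃ t : T, t * t = 1 ∧ t.1 i = j := by
    subst hn; exact exists_goodSylow_trans k
  obtain ⟨C⟩ : Nonempty (Sylow 2 Fˣ) := inferInstance
  let A := (Fintype.card F - 1).factorization 2
  have hC : Nat.card (C : Subgroup Fˣ) = 2 ^ A := by
    rw [C.card_eq_multiplicity, Nat.card_units, Nat.card_eq_fintype_card]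
  have hCmem : ∀ u : Fˣ, ∀ e, u ^ (2 ^ e) = 1 → u ∈ (C : Subgroup Fˣ) := by
    intro u e hu
    have hp : IsPGroup 2 ↥(Subgroup.zpowers u) := by
      obtain ⟨j, -, hj⟩ := (Nat.dvd_prime_pow Nat.prime_two).1 (orderOf_dvd_of_pow_eq_one hu)
      exact IsPGroup.of_card (n := j) (by rw [Nat.card_zpowers, hj])
    exact (hp.le_sylow_of_normal C) (Subgroup.mem_zpowers u)
  have hm1 : (-1 : Fˣ) ∈ (C : Subgroup Fˣ) := hCmem _ 1 (by norm_num)
  obtain ⟨r, hr⟩ := (FiniteField.isSquare_neg_one_iff (F := F)).2 (by omega)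
  have hr0 : r ≠ 0 := fun h => by rw [h, mul_zero] at hr; exact (neg_ne_zero.2 (one_ne_zero (α := F))) hr
  let cu : Fˣ := Units.mk0 r hr0
  have hcu : cu * cu = -1 := Units.ext (by show r * r = _; rw [← hr]; simp)
  have hcC : cu ∈ (C : Subgroup Fˣ) := hCmem _ 2 (by
    rw [show (2 : ℕ) ^ 2 = 2 + 2 by norm_num, pow_add, pow_two, hcu, neg_mul_neg, one_mul])
  let X₀ := (Fin n → (C : Subgroup Fˣ)) ⋊[mulAutArrow] T
  let sg : T →* Fˣ := (Units.map (Int.castRingHom F).toMonoidHom).comp (Equiv.Perm.sign.comp T.subtype)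
  let χ : X₀ →* Fˣ :=
    { toFun := fun w => (∏ i, (w.left i : Fˣ)) * sg w.right
      map_one' := by
        show (∏ i, ((1 : Fin n → (C : Subgroup Fˣ)) i : Fˣ)) * sg 1 = 1
        rw [map_one, mul_one]
        exact Finset.prod_eq_one fun i _ => rfl
      map_mul' := fun a b => by
        show (∏ i, ((a.left * (mulAutArrow a.right) b.left) i : Fˣ)) * sg (a.right * b.right) = _
        simp only [Pi.mul_apply, Subgroup.coe_mul, map_mul, Finset.prod_mul_distrib]
        rw [show (∏ i, (((mulAutArrow a.right) b.left i : (C : Subgroup Fˣ)) : Fˣ)) = ∏ i, (b.left i : Fˣ) from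
          Equiv.prod_comp (a.right.1).symm (fun i => (b.left i : Fˣ))]
        exact mul_mul_mul_comm _ _ _ _ }
  let φ : χ.ker →* Matrix.SpecialLinearGroup (Fin n) F :=
    { toFun := fun w => ⟨mono T C w.1, by rw [mono_det]; exact congrArg Units.val w.2⟩
      map_one' := Subtype.ext (map_one _)
      map_mul' := fun a b => Subtype.ext (map_mul (mono T C) a.1 b.1) }
  let E : Fin n → ↥(C : Subgroup Fˣ) → X₀ := fun i c => SemidirectProduct.inl (Pi.mulSingle i c)
  have hχE : ∀ i c, χ (E i c) = c := by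
    intro i c
    show (∏ j, ((Pi.mulSingle i c : Fin n → (C : Subgroup Fˣ)) j : Fˣ)) * sg 1 = _
    rw [map_one, mul_one, Finset.prod_eq_single i (fun j _ hj => by rw [Pi.mulSingle_eq_of_ne hj]; rfl)
      (by simp), Pi.mulSingle_eq_same]
  have hχT : ∀ t : T, χ (SemidirectProduct.inr t) = sg t := by
    intro t
    show (∏ j, ((1 : Fin n → (C : Subgroup Fˣ)) j : Fˣ)) * sg t = _
    exact (congrArg (· * sg t) (Finset.prod_eq_one fun i _ => rfl)).trans (one_mul _)
  have hsg : ∀ t, sg t = 1 ∨ sg t = -1 := by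
    intro t
    rcases Int.units_eq_one_or (Equiv.Perm.sign t.1) with h | h
    · left
      show Units.map (Int.castRingHom F).toMonoidHom (Equiv.Perm.sign t.1) = 1
      rw [h, map_one]
    · right
      show Units.map (Int.castRingHom F).toMonoidHom (Equiv.Perm.sign t.1) = -1
      rw [h]; ext; simp
  have hsgC : ∀ t, sg t ∈ (C : Subgroup Fˣ) := fun t => by
    rcases hsg t with h | h <;> rw [h]
    · exact one_mem _
    · exact hm1
  let i0 : Fin n := ⟨0, hn1⟩
  have hcard : Nat.card χ.ker = 2 ^ (Nat.card (Matrix.SpecialLinearGroup (Fin n) F)).factorization 2 := by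
    have hrange : χ.range = (C : Subgroup Fˣ) := by
      refine le_antisymm ?_ fun c hc => ⟨E i0 ⟨c, hc⟩, hχE _ _⟩
      rintro _ ⟨w, rfl⟩
      exact mul_mem (prod_mem fun i _ => (w.left i).2) (hsgC _)
    have h := χ.ker.card_mul_index
    rw [Subgroup.index_ker, hrange, SemidirectProduct.card, Nat.card_fun, Nat.card_fin, hC, hTc,
      ← pow_mul, ← pow_add] at h
    have hv := v2_card_SL (F := F) hq n hn1
    have hs := sum_one h1 h4 n
    have ht : tq (Fintype.card F) = A + 1 := by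
      rw [tq, v2_mul (by omega) (by omega), v2_of_mod_four (n := Fintype.card F + 1) (by omega)]
    rw [ht, Nat.mul_succ] at hs
    refine Nat.eq_of_mul_eq_mul_right (Nat.two_pow_pos A) ?_
    rw [h, ← pow_add]
    congr 1
    have : A * n = n * A := mul_comm _ _
    omega
  have hinj : Function.Injective φ :=
    fun a b h => Subtype.ext (mono_injective T (C : Subgroup Fˣ) (congrArg Subtype.val h))
  refine sylow_sq_of_hom φ hinj hcard ?_ P x
  intro w
  let M : Subgroup X₀ := (sqSub χ.ker).map χ.ker.subtype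
  suffices hM : w.1 ∈ M by
    obtain ⟨v, hv, he⟩ := hM
    rwa [← Subtype.ext he]
  -- permutation elements
  have hswapE : ∀ (t : T) i c, SemidirectProduct.inr t * E i c * (SemidirectProduct.inr t)⁻¹ = E (t.1 i) c := by
    intro t i c
    rw [← map_inv, ← SemidirectProduct.inl_aut]
    show SemidirectProduct.inl _ = SemidirectProduct.inl _
    congr 1
    funext j
    show Pi.mulSingle (M := fun _ : Fin n => ↥(C : Subgroup Fˣ)) i c (t.1.symm j) = Pi.mulSingle (M := fun _ : Fin n => ↥(C : Subgroup Fˣ)) (t.1 i) c j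
    rcases eq_or_ne j (t.1 i) with rfl | hne
    · rw [Equiv.symm_apply_apply, Pi.mulSingle_eq_same, Pi.mulSingle_eq_same]
    · rw [Pi.mulSingle_eq_of_ne hne, Pi.mulSingle_eq_of_ne (fun h => hne (by rw [← h, Equiv.apply_symm_apply]))]
  have hEmul : ∀ i c c', E i c * E i c' = E i (c * c') := fun i c c' => by
    show SemidirectProduct.inl _ * SemidirectProduct.inl _ = _
    rw [← map_mul, ← Pi.mulSingle_mul]
  have hEone : ∀ i, E i 1 = 1 := fun i => by
    show SemidirectProduct.inl _ = _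
    rw [Pi.mulSingle_one, map_one]
  have hEinv : ∀ i c, (E i c)⁻¹ = E i c⁻¹ := fun i c =>
    inv_eq_of_mul_eq_one_right (by rw [hEmul, mul_inv_cancel, hEone])
  have hEcomm : ∀ i j c c', E i c * E j c' = E j c' * E i c := fun i j c c' => by
    show SemidirectProduct.inl _ * SemidirectProduct.inl _ = SemidirectProduct.inl _ * SemidirectProduct.inl _
    rw [← map_mul, ← map_mul]
    congr 1
    funext k
    exact Subtype.ext (mul_comm (G := Fˣ) _ _)
  -- the torus
  have htorus : ∀ i j c, ∀ (hm : E i c * E j c⁻¹ ∈ χ.ker),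
      (⟨E i c * E j c⁻¹, hm⟩ : χ.ker) ^ 2 ∈ commutator χ.ker := by
    intro i j c hm
    rcases eq_or_ne i j with rfl | hij
    · have : (⟨E i c * E i c⁻¹, hm⟩ : χ.ker) = 1 := Subtype.ext (by
        show E i c * E i c⁻¹ = 1
        rw [hEmul, mul_inv_cancel, hEone])
      rw [this, one_pow]; exact one_mem _
    obtain ⟨t, ht2, htij⟩ := hTtr i j
    have htji : t.1 j = i := by
      rw [← htij]
      exact Equiv.Perm.congr_fun (congrArg Subtype.val ht2) i
    let σ : (C : Subgroup Fˣ) := ⟨sg t, hsgC t⟩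
    have hsgsg : sg t * sg t = 1 := by rw [← map_mul, ht2, map_one]
    have hv : E i σ * SemidirectProduct.inr t ∈ χ.ker := by
      rw [MonoidHom.mem_ker, map_mul, hχE, hχT]
      exact hsgsg
    let v : χ.ker := ⟨_, hv⟩
    let h : χ.ker := ⟨_, hm⟩
    have hc := Subgroup.commutator_mem_commutator (Subgroup.mem_top h) (Subgroup.mem_top v)
    rw [← commutator_def] at hc
    have hvh : v * h * v⁻¹ = h⁻¹ := by
      refine Subtype.ext ?_
      show E i σ * SemidirectProduct.inr t * (E i c * E j c⁻¹) * (E i σ * SemidirectProduct.inr t)⁻¹ =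
        (E i c * E j c⁻¹)⁻¹
      rw [mul_inv_rev, show E i σ * SemidirectProduct.inr t * (E i c * E j c⁻¹) *
          ((SemidirectProduct.inr t)⁻¹ * (E i σ)⁻¹) =
        E i σ * ((SemidirectProduct.inr t * E i c * (SemidirectProduct.inr t)⁻¹) *
          (SemidirectProduct.inr t * E j c⁻¹ * (SemidirectProduct.inr t)⁻¹)) * (E i σ)⁻¹ by group,
        hswapE, hswapE, htij, htji]
      simp only [mul_inv_rev, hEinv, inv_inv]
      rw [← mul_assoc, hEcomm i j σ c, mul_assoc (E j c), hEmul, mul_assoc (E j c), hEmul]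
      congr 2
      exact Subtype.ext (by
        show (σ : Fˣ) * (c : Fˣ)⁻¹ * (σ : Fˣ)⁻¹ = (c : Fˣ)⁻¹
        rw [mul_comm (σ : Fˣ), mul_inv_cancel_right])
    have he : ⁅h, v⁆ = h ^ 2 := by
      have hvh' : v * h⁻¹ * v⁻¹ = h := by
        have := congrArg (fun z => z⁻¹) hvh
        simp only [mul_inv_rev, inv_inv] at this
        rw [mul_assoc]; exact this
      rw [commutatorElement_def, pow_two, mul_assoc h v, mul_assoc h (v * h⁻¹), hvh']
    rwa [he] at hc
  have htorM : ∀ i c, E i c * E i0 c⁻¹ ∈ M := by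
    intro i c
    have hm : E i c * E i0 c⁻¹ ∈ χ.ker := by
      rw [MonoidHom.mem_ker, map_mul, hχE, hχE]
      exact mul_inv_cancel (c : Fˣ)
    exact ⟨⟨_, hm⟩, mem_sqSub.2 (htorus i i0 c hm), rfl⟩
  -- lifts of the permutations
  have hlift : ∀ t : T, E i0 ⟨sg t, hsgC t⟩ * SemidirectProduct.inr t ∈ M := by
    intro t
    refine induction_involutions hTg
      (p := fun t => E i0 ⟨sg t, hsgC t⟩ * SemidirectProduct.inr t ∈ M) ?_ ?_ ?_ ?_ t
    · have : (⟨sg 1, hsgC 1⟩ : (C : Subgroup Fˣ)) = 1 := Subtype.ext (map_one sg)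
      rw [this, hEone, map_one, one_mul]; exact one_mem M
    · intro a b ha hb
      have e : E i0 ⟨sg (a * b), hsgC _⟩ * SemidirectProduct.inr (a * b) =
          (E i0 ⟨sg b, hsgC b⟩ * E (a.1 i0) (⟨sg b, hsgC b⟩)⁻¹) *
            ((E i0 ⟨sg a, hsgC a⟩ * SemidirectProduct.inr a) * (E i0 ⟨sg b, hsgC b⟩ * SemidirectProduct.inr b)) := by
        rw [show E i0 ⟨sg a, hsgC a⟩ * SemidirectProduct.inr a * (E i0 ⟨sg b, hsgC b⟩ * SemidirectProduct.inr b) =
          E i0 ⟨sg a, hsgC a⟩ * (SemidirectProduct.inr a * E i0 ⟨sg b, hsgC b⟩ * (SemidirectProduct.inr a)⁻¹) *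
            (SemidirectProduct.inr a * SemidirectProduct.inr b) by group, hswapE, ← map_mul SemidirectProduct.inr, ← mul_assoc]
        congr 1
        rw [hEcomm i0 (a.1 i0) ⟨sg a, hsgC a⟩, mul_assoc, ← mul_assoc (E (a.1 i0) _), hEmul,
          inv_mul_cancel, hEone, one_mul, hEmul]
        congr 1
        exact Subtype.ext ((map_mul sg a b).trans (mul_comm _ _))
      rw [e]
      refine mul_mem ?_ (mul_mem ha hb)
      have := inv_mem (htorM (a.1 i0) ⟨sg b, hsgC b⟩)
      rwa [mul_inv_rev, hEinv, hEinv, inv_inv] at this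
    · intro a ha
      have := inv_mem ha
      rw [mul_inv_rev, hEinv, ← map_inv] at this
      have e : E i0 ⟨sg a⁻¹, hsgC _⟩ * SemidirectProduct.inr a⁻¹ =
          (E i0 ⟨sg a⁻¹, hsgC _⟩ * E (a⁻¹.1 i0) (⟨sg a⁻¹, hsgC _⟩)⁻¹) *
            (SemidirectProduct.inr a⁻¹ * E i0 (⟨sg a, hsgC a⟩)⁻¹) := by
        rw [show SemidirectProduct.inr a⁻¹ * E i0 (⟨sg a, hsgC a⟩)⁻¹ =
          (SemidirectProduct.inr a⁻¹ * E i0 (⟨sg a, hsgC a⟩)⁻¹ * (SemidirectProduct.inr a⁻¹)⁻¹) *
            SemidirectProduct.inr a⁻¹ by group, hswapE, ← mul_assoc, mul_assoc (E i0 _) (E (a⁻¹.1 i0) _), hEmul]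
        congr 2
        rw [show (⟨sg a⁻¹, hsgC _⟩ : (C : Subgroup Fˣ))⁻¹ * (⟨sg a, hsgC a⟩)⁻¹ = 1 from Subtype.ext (by
          show (sg a⁻¹)⁻¹ * (sg a)⁻¹ = 1
          rw [map_inv, inv_inv, mul_inv_cancel]), hEone, mul_one]
      rw [e]
      refine mul_mem ?_ this
      have := inv_mem (htorM (a⁻¹.1 i0) ⟨sg a⁻¹, hsgC _⟩)
      rwa [mul_inv_rev, hEinv, hEinv, inv_inv] at this
    · intro s hs
      have hm : E i0 ⟨sg s, hsgC s⟩ * SemidirectProduct.inr s ∈ χ.ker := by
        rw [MonoidHom.mem_ker, map_mul, hχE, hχT]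
        show sg s * sg s = 1
        rw [← map_mul, hs, map_one]
      refine ⟨⟨_, hm⟩, mem_sqSub.2 ?_, rfl⟩
      rcases hsg s with h | h
      · have e1 : (⟨sg s, hsgC s⟩ : (C : Subgroup Fˣ)) = 1 := Subtype.ext h
        have : (⟨_, hm⟩ : χ.ker) ^ 2 = 1 := Subtype.ext (by
          show (E i0 ⟨sg s, hsgC s⟩ * SemidirectProduct.inr s) ^ 2 = 1
          rw [e1, hEone, one_mul, pow_two, ← map_mul, hs, map_one])
        rw [this]; exact one_mem _
      · let c₀ : (C : Subgroup Fˣ) := ⟨cu, hcC⟩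
        have hc2 : (⟨sg s, hsgC s⟩ : (C : Subgroup Fˣ)) = c₀ * c₀ := Subtype.ext (h.trans hcu.symm)
        have hc2' : (⟨sg s, hsgC s⟩ : (C : Subgroup Fˣ)) = c₀⁻¹ * c₀⁻¹ := Subtype.ext (by
          show sg s = cu⁻¹ * cu⁻¹
          rw [← mul_inv, hcu, inv_neg, inv_one, h])
        have hmh : E i0 c₀ * E (s.1 i0) c₀⁻¹ ∈ χ.ker := by
          rw [MonoidHom.mem_ker, map_mul, hχE, hχE]
          exact mul_inv_cancel (c₀ : Fˣ)
        have e : (⟨_, hm⟩ : χ.ker) ^ 2 = (⟨_, hmh⟩ : χ.ker) ^ 2 := Subtype.ext (by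
          show (E i0 ⟨sg s, hsgC s⟩ * SemidirectProduct.inr s) ^ 2 = (E i0 c₀ * E (s.1 i0) c₀⁻¹) ^ 2
          have hsinv : (SemidirectProduct.inr s : X₀)⁻¹ = SemidirectProduct.inr s :=
            inv_eq_of_mul_eq_one_right (by rw [← map_mul, hs, map_one])
          rw [pow_two, pow_two, show E i0 ⟨sg s, hsgC s⟩ * SemidirectProduct.inr s *
              (E i0 ⟨sg s, hsgC s⟩ * SemidirectProduct.inr s) =
            E i0 ⟨sg s, hsgC s⟩ * (SemidirectProduct.inr s * E i0 ⟨sg s, hsgC s⟩ * SemidirectProduct.inr s) by group]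
          nth_rw 2 [← hsinv]
          rw [hswapE, show E i0 c₀ * E (s.1 i0) c₀⁻¹ * (E i0 c₀ * E (s.1 i0) c₀⁻¹) =
            E i0 c₀ * (E (s.1 i0) c₀⁻¹ * E i0 c₀) * E (s.1 i0) c₀⁻¹ by group, hEcomm (s.1 i0) i0,
            show E i0 c₀ * (E i0 c₀ * E (s.1 i0) c₀⁻¹) * E (s.1 i0) c₀⁻¹ =
            (E i0 c₀ * E i0 c₀) * (E (s.1 i0) c₀⁻¹ * E (s.1 i0) c₀⁻¹) by group, hEmul, hEmul, ← hc2, ← hc2'])
        rw [e]
        exact htorus i0 (s.1 i0) c₀ hmh
  -- decomposition
  let a := w.1.left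
  let Z : Subgroup (Fin n → (C : Subgroup Fˣ)) :=
    { carrier := {f | SemidirectProduct.inl f * E i0 (∏ i, f i)⁻¹ ∈ M}
      one_mem' := by
        show _ ∈ M
        simp only [Pi.one_apply, Finset.prod_const_one, inv_one, hEone, map_one, mul_one]
        exact one_mem M
      mul_mem' := fun {f g} hf hg => by
        show SemidirectProduct.inl (f * g) * E i0 (∏ i, (f * g) i)⁻¹ ∈ M
        change SemidirectProduct.inl f * E i0 (∏ i, f i)⁻¹ ∈ M at hf
        change SemidirectProduct.inl g * E i0 (∏ i, g i)⁻¹ ∈ M at hg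
        have := mul_mem hf hg
        convert this using 1
        simp only [Pi.mul_apply, Finset.prod_mul_distrib, mul_inv, ← hEmul]
        show SemidirectProduct.inl _ * (SemidirectProduct.inl _ * SemidirectProduct.inl _) =
          SemidirectProduct.inl _ * SemidirectProduct.inl _ * (SemidirectProduct.inl _ * SemidirectProduct.inl _)
        simp only [← map_mul]
        congr 1
        exact mul_mul_mul_comm _ _ _ _
      inv_mem' := fun {f} hf => by
        show SemidirectProduct.inl f⁻¹ * E i0 (∏ i, f⁻¹ i)⁻¹ ∈ M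
        change SemidirectProduct.inl f * E i0 (∏ i, f i)⁻¹ ∈ M at hf
        have := inv_mem hf
        convert this using 1
        simp only [Pi.inv_apply, Finset.prod_inv_distrib]
        rw [← hEinv]
        show SemidirectProduct.inl _ * (SemidirectProduct.inl _)⁻¹ = (SemidirectProduct.inl _ * SemidirectProduct.inl _)⁻¹
        simp only [← map_inv, ← map_mul]
        exact (congrArg SemidirectProduct.inl
          (funext fun j => Subtype.ext (mul_inv (α := Fˣ) _ _).symm)).trans (map_inv _ _) }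
  have hZ : a ∈ Z := Subgroup.pi_mem_of_mulSingle_mem _ fun i => by
    show SemidirectProduct.inl (Pi.mulSingle i (a i)) * E i0 (∏ j, (Pi.mulSingle i (a i) : Fin n → (C : Subgroup Fˣ)) j)⁻¹ ∈ M
    rw [Finset.prod_pi_mulSingle' i (a i), if_pos (Finset.mem_univ i)]
    exact htorM i (a i)
  have hprod : (∏ i, a i) * ⟨sg w.1.right, hsgC _⟩ = 1 := Subtype.ext (by
    rw [Subgroup.coe_mul, SubmonoidClass.coe_finsetProd]
    exact w.2)
  rw [← SemidirectProduct.inl_left_mul_inr_right w.1]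
  have := mul_mem (show SemidirectProduct.inl a * E i0 (∏ i, a i)⁻¹ ∈ M from hZ) (hlift w.1.right)
  convert this using 1
  show SemidirectProduct.inl a * _ = SemidirectProduct.inl a * E i0 (∏ i, a i)⁻¹ * _
  rw [mul_assoc (SemidirectProduct.inl a), ← mul_assoc (E i0 _), hEmul,
    show (∏ i, a i)⁻¹ = (⟨sg w.1.right, hsgC _⟩ : (C : Subgroup Fˣ)) from inv_eq_of_mul_eq_one_right hprod]
  rw [show (⟨sg w.1.right, hsgC _⟩ : (C : Subgroup Fˣ)) * ⟨sg w.1.right, hsgC _⟩ = 1 from Subtype.ext (by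
    show sg w.1.right * sg w.1.right = 1
    rcases hsg w.1.right with h | h <;> rw [h] <;> simp), hEone, one_mul]

end Cfsg.Agent.Lib.SylowOrth52
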